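import Cfsg.Agent.TID.Ree.Lst
import Cfsg.Agent.TID.Syl.Transfer
import Cfsg.Agent.H681.TI.Cnt
import Cfsg.Agent.H622.Over
import Cfsg.Agent.S0188
import Cfsg.Agent.S0886

/-!
# S4622, row `SRee`: the passage to an extension (helper3)

`ι : H →* Y` injective with normal range, `Z` central, `Y / ι(H) Z` cyclic of order prime to `6`.

* `Shape.inv`: the characters of positive height are invariant;
* `Ext.count`: the number of the characters of `Y` with given central character and height.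
-/

set_option autoImplicit false
set_option linter.unusedSectionVars false

namespace Cfsg.Agent.TID.Ree

open Cfsg Cfsg.Agent.Characters.Core Cfsg.Agent.H672
open Cfsg.Agent.H622.Over (Lies)
open Cfsg.Agent.H681.TI (cAll)
open scoped ComplexConjugate

universe u v w

theorem perm_six {I : Type*} [Finite I] (hI : Nat.card I = 6) (σ : Equiv.Perm I) (τ : I → I) (h1 : ∀ i, τ i ≠ i)
    (h2 : ∀ i, σ (τ i) = τ (σ i)) {k : ℕ} (hk : Nat.Coprime k 6) (h3 : σ ^ k = 1) : σ = 1 := by
  classical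
  have := Fintype.ofFinite I
  have : Fact (Nat.Prime 5) := ⟨by norm_num⟩
  rw [Nat.card_eq_fintype_card] at hI
  have h4 : orderOf σ ∣ 6 ^ 4 * 5 := by
    have h5 := orderOf_dvd_card (x := σ)
    rw [Fintype.card_perm, hI] at h5
    exact h5.trans (by decide)
  have h5 : orderOf σ ∣ 5 := Nat.Coprime.dvd_of_dvd_mul_left
    (Nat.Coprime.pow_right 4 (Nat.Coprime.coprime_dvd_left (orderOf_dvd_of_pow_eq_one h3) hk)) h4
  have h6 : σ ^ 5 = 1 := orderOf_dvd_iff_pow_eq_one.1 h5
  have h7 := Equiv.Perm.card_fixedPoints_modEq (f := (⇑σ : I → I)) (p := 5) (n := 1) (by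
    funext i
    have h8 := DFunLike.congr_fun h6 i
    rw [Equiv.Perm.coe_pow] at h8
    exact h8)
  rw [hI] at h7
  have h8 := Fintype.card_subtype_le (fun i => i ∈ Function.fixedPoints (⇑σ : I → I))
  rw [hI] at h8
  have h9 : Fintype.card (Function.fixedPoints (⇑σ : I → I)) ≠ 1 := by
    intro h10
    obtain ⟨⟨i, hi⟩, h11⟩ := Fintype.card_eq_one_iff.1 h10
    have h12 : σ (τ i) = τ i := by rw [h2, show σ i = i from hi]
    exact h1 i (congrArg Subtype.val (h11 ⟨τ i, h12⟩))
  have h10 : Fintype.card (Function.fixedPoints (⇑σ : I → I)) = Fintype.card I := by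
    unfold Nat.ModEq at h7
    change Fintype.card (Function.fixedPoints (⇑σ : I → I)) ≤ 6 at h8
    omega
  ext i
  by_contra h11
  exact (Fintype.card_subtype_lt (p := fun i => i ∈ Function.fixedPoints (⇑σ : I → I)) h11).ne h10

variable {H : Type u} [Group H] [Finite H] {m : ℕ}

/-- the action of the automorphisms on the characters -/
def act (α : MulAut H) : Equiv.Perm (IrrCharacter H) := RM.irrEquiv α

theorem act_apply (α : MulAut H) (θ : IrrCharacter H) (x : H) : (act α θ : H → ℂ) x = (θ : H → ℂ) (α x) := rfl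

theorem nu_act (α : MulAut H) (θ : IrrCharacter H) : nu (act α θ) = nu θ := by
  unfold nu
  rw [show charDegree (act α θ : H → ℂ) = charDegree (θ : H → ℂ) from charDegree_comp_one α.toMonoidHom _]

theorem act_pow (α : MulAut H) (k : ℕ) (θ : IrrCharacter H) (x : H) :
    ((act α ^ k) θ : H → ℂ) x = (θ : H → ℂ) ((α ^ k) x) := by
  induction k generalizing x with
  | zero => rfl
  | succ k ih => rw [pow_succ', Equiv.Perm.mul_apply, act_apply, ih, pow_succ, MulAut.mul_apply]

/-- **The characters of positive height are invariant.** -/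
theorem Shape.inv (hS : Shape m H) {h : ℕ} (h0 : 0 < h) (h1 : h ≠ 3 * (2 * m + 1)) (α : MulAut H) {k : ℕ}
    (hk : Nat.Coprime k 6) {g : H} (hg : ∀ x, (α ^ k) x = g * x * g⁻¹) {θ : IrrCharacter H} (hθ : nu θ = h) :
    act α θ = θ := by
  have := finite_irr (G := H)
  rcases hS.cases θ with h2 | h2 | h2 | h2
  · omega
  · have h3 := perm_six hS.six ((act α).subtypePerm (p := fun χ => nu χ = m) fun χ => by rw [nu_act])
      (fun χ => ⟨cj χ.1, by rw [nu_cj, χ.2]⟩) (fun χ h4 => hS.nonreal χ.1 χ.2 (congrArg Subtype.val h4))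
      (fun χ => rfl) hk (by
        rw [Equiv.Perm.subtypePerm_pow]
        ext χ x
        change ((act α ^ k) χ.1 : H → ℂ) x = (χ.1 : H → ℂ) x
        rw [act_pow, hg, isIrr_isClassFunction χ.1.2])
    exact congrArg Subtype.val (DFunLike.congr_fun h3 ⟨θ, h2⟩)
  · obtain ⟨ξ, hξ⟩ := Nat.card_eq_one_iff_exists.1 hS.one
    exact congrArg Subtype.val ((hξ ⟨act α θ, by rw [nu_act, h2]⟩).trans (hξ ⟨θ, h2⟩).symm)
  · omega

theorem Shape.card_eq {H' : Type v} [Group H'] [Finite H'] (hS : Shape m H) (hS' : Shape m H') {h : ℕ} (h0 : 0 < h)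
    (h1 : h ≠ 3 * (2 * m + 1)) :
    Nat.card {θ : IrrCharacter H // nu θ = h} = Nat.card {θ : IrrCharacter H' // nu θ = h} := by
  by_cases h2 : h = m
  · rw [h2, hS.six, hS'.six]
  by_cases h3 : h = 2 * m + 1
  · rw [h3, hS.one, hS'.one]
  have h4 : IsEmpty {θ : IrrCharacter H // nu θ = h} := ⟨fun θ => by
    have := hS.cases θ.1
    have := θ.2
    omega⟩
  have h5 : IsEmpty {θ : IrrCharacter H' // nu θ = h} := ⟨fun θ => by
    have := hS'.cases θ.1
    have := θ.2
    omega⟩
  rw [Nat.card_of_isEmpty, Nat.card_of_isEmpty]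

variable {Y : Type v} [Group Y] [Finite Y] {A : Type w} [Group A] [Finite A]

/-- The characters over an invariant character, cyclic quotient. -/
theorem cAll_cyc (f : H →* Y) (hf : Function.Injective f) (π : Y →* A) (hπ : Function.Surjective π)
    (hker : π.ker = f.range) [IsCyclic A] {θ : H → ℂ} (hθ : IsIrrCharacter H θ)
    (hinv : ∀ (y : Y) (x x' : H), f x' = y * f x * y⁻¹ → θ x' = θ x) : cAll f θ = Nat.card A := by
  have hn : f.range.Normal := hker ▸ inferInstance
  let e : H ≃* f.range := MonoidHom.ofInjective hf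
  have he : ∀ x : f.range, f (e.symm x) = x := fun x => MonoidHom.apply_ofInjective_symm hf x
  have hθ' : IsIrrCharacter f.range (θ ∘ e.symm) := isIrr_comp (e.symm : f.range →* H) e.symm.surjective hθ
  have hc : IsCyclic (Y ⧸ f.range) := isCyclic_of_surjective
    ((QuotientGroup.quotientKerEquivOfSurjective π hπ).symm.trans (QuotientGroup.quotientMulEquivOfEq hker))
    (MulEquiv.surjective _)
  obtain ⟨χ, hχ, hres⟩ := S0886.result f.range hc _ hθ' (fun y x => hinv y _ _ (by rw [he, he]))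
  rw [H681.TI.cAll_congr Subgroup.topEquiv.symm e f (Subgroup.inclusion le_top) (fun _ => rfl) θ (θ ∘ e.symm)
      (fun x => by rw [Function.comp_apply, e.symm_apply_apply]),
    H681.TI.cAll_of_ext le_top (by rw [Subgroup.normalizer_eq_top]) hθ'
      (isIrr_comp (Subgroup.subtype ⊤) (fun y => ⟨⟨y, trivial⟩, rfl⟩) hχ) hres
      (π.comp (Subgroup.subtype ⊤)) (fun a => by
        obtain ⟨y, rfl⟩ := hπ a
        exact ⟨⟨y, trivial⟩, rfl⟩) (fun t => by rw [← hker]; rfl)]
  exact Nat.card_congr (Equiv.ofBijective ConjClasses.mk ⟨fun a b hab => by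
    obtain ⟨g, rfl⟩ := isConj_iff.1 (ConjClasses.mk_eq_mk_iff_isConj.1 hab)
    rw [(IsCyclic.isMulCommutative (α := A)).is_comm.comm g a, mul_inv_cancel_right], ConjClasses.mk_surjective⟩).symm

/-- The data of the extension. -/
structure Ext (ι : H →* Y) (Z : Subgroup Y) (π : Y →* A) : Prop where
  inj : Function.Injective ι
  nor : ι.range.Normal
  idx : ¬ 3 ∣ ι.range.index
  cen : Z ≤ Subgroup.center Y
  dis : ∀ x, ι x ∈ Z → x = 1
  surj : Function.Surjective π
  ker : π.ker = ι.range ⊔ Z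
  cyc : IsCyclic A
  cop : Nat.Coprime (Nat.card A) 6

namespace Ext

variable {ι : H →* Y} {Z : Subgroup Y} {π : Y →* A} (E : Ext ι Z π)

include E in
theorem comm (x : H) (z : Z) : Commute (ι x) (Z.subtype z) := Subgroup.mem_center_iff.1 (E.cen z.2) (ι x)

/-- the product -/
def mul : H × Z →* Y := ι.noncommCoprod Z.subtype E.comm

theorem mul_apply (x : H × Z) : E.mul x = ι x.1 * x.2 := rfl

theorem mul_inj : Function.Injective E.mul := by
  rw [injective_iff_map_eq_one]
  rintro ⟨x, z⟩ h1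
  rw [mul_apply] at h1
  have h2 : x = 1 := E.dis x (by
    rw [eq_inv_of_mul_eq_one_left h1]
    exact Z.inv_mem z.2)
  subst h2
  rw [map_one, one_mul] at h1
  exact Prod.ext rfl (Subtype.ext h1)

theorem ker_eq : π.ker = E.mul.range := by
  rw [E.ker, mul, MonoidHom.noncommCoprod_range, Subgroup.range_subtype]

include E in
theorem inv (hS : Shape m H) {h : ℕ} (h0 : 0 < h) (h1 : h ≠ 3 * (2 * m + 1)) {θ : IrrCharacter H} (hθ : nu θ = h)
    (y : Y) (x x' : H) (hx : ι x' = y * ι x * y⁻¹) : (θ : H → ℂ) x' = (θ : H → ℂ) x := by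
  have := E.nor
  let e : H ≃* ι.range := MonoidHom.ofInjective E.inj
  let φ : Y →* MulAut H := (MulAut.congr e.symm).toMonoidHom.comp (MulAut.conjNormal (H := ι.range))
  have hφ : ∀ y x, ι (φ y x) = y * ι x * y⁻¹ := fun y x => MonoidHom.apply_ofInjective_symm E.inj _
  have h2 : y ^ Nat.card A ∈ E.mul.range := by
    rw [← E.ker_eq, MonoidHom.mem_ker, map_pow, pow_card_eq_one']
  obtain ⟨⟨g, z⟩, h3⟩ := h2
  have h4 := hS.inv h0 h1 (φ y) E.cop (g := g) (fun x => E.inj (by
    rw [← map_pow, hφ, ← h3, mul_apply, map_mul, map_mul, map_inv, mul_assoc (ι g),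
      ← Subgroup.mem_center_iff.1 (E.cen z.2)]
    group)) hθ
  rw [E.inj (hx.trans (hφ y x).symm), ← act_apply, h4]

include E in
/-- **The count.** -/
theorem count (hS : Shape m H) {h : ℕ} (h0 : 0 < h) (h1 : h ≠ 3 * (2 * m + 1)) (c : Z →* ℂˣ) :
    Nat.card {χ : IrrCharacter Y // Lies Z c (χ : Y → ℂ) ∧ Syl.nu 3 (χ : Y → ℂ) = h} =
      Nat.card {θ : IrrCharacter H // nu θ = h} * Nat.card A := by
  classical
  have : Fact (Nat.Prime 3) := ⟨Nat.prime_three⟩
  have := E.cyc
  have := Fintype.ofFinite H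
  have := Fintype.ofFinite Z
  have := finite_irr (G := H)
  have := finite_irr (G := Y)
  have := Fintype.ofFinite (IrrCharacter H)
  have := Fintype.ofFinite (IrrCharacter Y)
  let F : IrrCharacter H → H × Z → ℂ := fun θ x => (θ : H → ℂ) x.1 * (c x.2 : ℂ)
  have hF : ∀ θ, IsIrrCharacter (H × Z) (F θ) := fun θ =>
    S0188.isIrr_outer θ.2 (Characters.Linear.isIrrCharacter_hom c)
  have hinv : ∀ θ, nu θ = h → ∀ (y : Y) (x x' : H × Z), E.mul x' = y * E.mul x * y⁻¹ → F θ x' = F θ x := by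
    rintro θ hθ y ⟨x, z⟩ ⟨x', z'⟩ h2
    obtain ⟨x'', h3⟩ := E.nor.conj_mem _ ⟨x, rfl⟩ y
    have h4 : (x', z') = (x'', z) := E.mul_inj (by
      rw [h2, mul_apply, mul_apply, h3, mul_assoc (y * ι x), Subgroup.mem_center_iff.1 (E.cen z.2) y⁻¹]
      group)
    rw [h4]
    exact congrArg (· * (c z : ℂ)) (E.inv hS h0 h1 hθ y x x'' h3)
  have hn : E.mul.range.Normal := E.ker_eq ▸ inferInstance
  have hres : ∀ θ, nu θ = h → ∀ χ : IrrCharacter Y, Over E.mul (χ : Y → ℂ) (F θ) →
      ∀ (x : H) (z : Z), (χ : Y → ℂ) (ι x * z) * (θ : H → ℂ) 1 = (χ : Y → ℂ) 1 * ((θ : H → ℂ) x * c z) := by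
    intro θ hθ χ ho x z
    have h2 := comp_eq_smul_of_invariant_hom E.mul E.mul_inj hn χ.2 (hF θ) (hinv θ hθ) ((over_iff _ _ _).1 ho)
    have h3 := congrFun h2 (x, z)
    have h4 := congrFun h2 1
    rw [Function.comp_apply, Pi.smul_apply, smul_eq_mul] at h3 h4
    rw [map_one] at h4
    rw [h4, ← mul_apply E (x, z), h3]
    simp only [F, Prod.fst_one, Prod.snd_one, map_one, Units.val_one]
    ring
  rw [Nat.card_eq_fintype_card, Nat.card_eq_fintype_card (α := {θ : IrrCharacter H // nu θ = h}),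
    Fintype.card_subtype (α := IrrCharacter Y), Fintype.card_subtype (α := IrrCharacter H),
    Finset.card_mul_eq_card_mul (fun (θ : IrrCharacter H) (χ : IrrCharacter Y) => Over E.mul (χ : Y → ℂ) (F θ))
      (t := Finset.univ.filter fun χ : IrrCharacter Y => Lies Z c (χ : Y → ℂ) ∧ Syl.nu 3 (χ : Y → ℂ) = h) (n := 1),
    mul_one]
  · intro θ hθ
    replace hθ := (Finset.mem_filter.1 hθ).2
    rw [← cAll_cyc E.mul E.mul_inj π E.surj E.ker_eq (hF θ) (hinv θ hθ)]
    refine (Nat.subtype_card _ fun χ => ?_).symm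
    rw [Finset.mem_bipartiteAbove, Finset.mem_filter]
    refine and_iff_right_of_imp fun ho => ⟨Finset.mem_univ _, fun x z => ?_, ?_⟩
    · have h2 := hres θ hθ χ ho 1 z
      rw [map_one, one_mul, ← mul_assoc, mul_right_comm] at h2
      rw [apply_mul χ.2 (norm_hom c z) (by
        rw [mul_right_cancel₀ (isIrr_apply_one_ne_zero θ.2) h2, mul_comm]), mul_comm]
    · rw [Syl.nu_eq_of_inner E.mul hn (fun h2 => E.idx (h2.trans (Subgroup.index_dvd_of_le ?_))) χ.2 (hF θ)
        ((over_iff _ _ _).1 ho), ← hθ]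
      · unfold Syl.nu nu
        congr 2
        apply charDegree_of_eq
        simp only [F, Prod.fst_one, Prod.snd_one, map_one, Units.val_one, mul_one, coe_charDegree θ.2]
      · rw [← E.ker_eq, E.ker]
        exact le_sup_left
  · intro χ hχ
    obtain ⟨h2, h3⟩ := (Finset.mem_filter.1 hχ).2
    obtain ⟨θ, hθ, h4⟩ := exists_under (f := ι) χ.2
    rw [over_iff] at h4
    have h5 : nu ⟨θ, hθ⟩ = h := (Syl.nu_eq_of_inner ι E.nor E.idx χ.2 hθ h4).symm.trans h3
    have h6 := comp_eq_smul_of_invariant_hom ι E.inj E.nor χ.2 hθ (E.inv hS h0 h1 h5) h4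
    have h7 : Over E.mul (χ : Y → ℂ) (F ⟨θ, hθ⟩) := by
      rw [over_iff]
      have h8 : (χ : Y → ℂ) ∘ E.mul = classInner ((χ : Y → ℂ) ∘ ι) θ • F ⟨θ, hθ⟩ := by
        funext x
        have h9 := congrFun h6 x.1
        rw [Function.comp_apply] at h9
        rw [Function.comp_apply, mul_apply, h2, h9, Pi.smul_apply, Pi.smul_apply, smul_eq_mul, smul_eq_mul, mul_assoc]
      rw [h8, classInner_smul_left, classInner_irr_self (hF _), mul_one]
      exact h4
    rw [Finset.card_eq_one]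
    refine ⟨⟨θ, hθ⟩, Finset.eq_singleton_iff_unique_mem.2 ⟨?_, fun θ' h8 => ?_⟩⟩
    · rw [Finset.mem_bipartiteBelow, Finset.mem_filter]
      exact ⟨⟨Finset.mem_univ _, h5⟩, h7⟩
    · rw [Finset.mem_bipartiteBelow, Finset.mem_filter] at h8
      by_contra h9
      apply h4
      have h10 : (χ : Y → ℂ) ∘ ι = ((χ : Y → ℂ) 1 * ((θ' : H → ℂ) 1)⁻¹) • (θ' : H → ℂ) := by
        funext x
        have h11 := hres θ' h8.1.2 χ h8.2 x 1
        rw [OneMemClass.coe_one, mul_one, map_one, Units.val_one, mul_one] at h11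
        rw [Function.comp_apply, Pi.smul_apply, smul_eq_mul, mul_right_comm, ← h11,
          mul_inv_cancel_right₀ (isIrr_apply_one_ne_zero θ'.2)]
      rw [h10, classInner_smul_left, classInner_irr_ne θ'.2 hθ fun h11 => h9 (Subtype.ext h11), mul_zero]

end Ext

end Cfsg.Agent.TID.Ree
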