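import Cfsg.Agent.TID.Ree.Grp
import Cfsg.Agent.TID.Ree.Tr
import Cfsg.Agent.TID.Syl.Counts
import Cfsg.Agent.H70.S3530.ReeExt
import Cfsg.Agent.S2113
import Cfsg.Agent.S2127

/-!
# S4622, row `SRee` (helper3)

`sree : SRee`.
-/

set_option autoImplicit false
set_option linter.unusedSectionVars false

namespace Cfsg.Agent.TID.Ree

open Cfsg Cfsg.Agent.Characters.Core
open Cfsg.Agent.LieRecognition Cfsg.Agent.LieRecognition.ReeAbs Cfsg.Agent.LieRecognition.ReeSplit
  Cfsg.Agent.LieRecognition.ReeSylowThree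
open Cfsg.Agent.TID.Blk (Nm)

universe u v w

/-- The shape of a Ree group and of the normalizer of any Sylow `3`-subgroup. -/
theorem shape_sylow {K : Type} [Field K] [Fintype K] {m : ℕ} (hm : 1 ≤ m) (hK : Fintype.card K = 3 ^ (2 * m + 1))
    {E : Type u} [Group E] [Finite E] (e : E ≃* Lie.twistedG2 K (3 ^ m)) (hE : commutator E = ⊤) (P : Sylow 3 E) :
    Shape m E ∧ Shape m (Nm (P : Subgroup E)) ∧ Nat.card (P : Subgroup E) = 3 ^ (3 * (2 * m + 1)) := by
  have : Fact (Nat.Prime 3) := ⟨Nat.prime_three⟩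
  have D₀ := H121.TI.Ree.data_congr e.symm (ReeFinal.data hK)
  obtain ⟨S, hS⟩ := H121.TI.Ree.exists_sylow D₀ hK
  obtain ⟨g, rfl⟩ := MulAction.exists_smul_eq E S P
  have D₁ := H121.TI.Ree.data_congr (MulAut.conj g) D₀
  have h1 : ((g • S : Sylow 3 E) : Subgroup E) = uSub D₁ := by
    rw [Sylow.coe_subgroup_smul, hS]
    ext x
    rw [Subgroup.mem_smul_pointwise_iff_exists]
    constructor
    · rintro ⟨_, ⟨t, u, v, rfl⟩, rfl⟩
      exact ⟨t, u, v, rfl⟩
    · rintro ⟨t, u, v, rfl⟩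
      exact ⟨_, ⟨t, u, v, rfl⟩, rfl⟩
  have h2 : ∀ T : Subgroup E, T = bSub D₁ → Shape m T := by
    rintro _ rfl
    exact (shape_grp D₁ hK hm hE).2
  refine ⟨(shape_grp D₁ hK hm hE).1, h2 _ ?_, ?_⟩
  · rw [h1]
    exact H121.TI.Ree.normalizer_uSub D₁
  · rw [h1, card_uSub, hK, ← pow_mul, mul_comm]

/-- The passage to the normalizers. -/
theorem Ext.norm {H : Type u} [Group H] [Finite H] {Y : Type v} [Group Y] [Finite Y] {A : Type w} [Group A] [Finite A]
    {ι : H →* Y} {Z : Subgroup Y} {π : Y →* A} (E : Ext ι Z π) {P₀ : Subgroup H} {P : Subgroup Y}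
    (hf : Syl.Hom ι P₀ P) : Ext hf.fN (Z.subgroupOf (Nm P)) (π.comp (Nm P).subtype) where
  inj x y hxy := Subtype.ext (E.inj (congrArg Subtype.val hxy))
  nor := by
    have := E.nor
    rw [hf.range_fN]
    infer_instance
  idx := by
    have := E.nor
    rw [hf.range_fN]
    exact fun h1 => E.idx (h1.trans (Subgroup.relIndex_dvd_index_of_normal _ _))
  cen := Syl.central_sub P E.cen
  dis x hx := Subtype.ext (E.dis x hx)
  surj a := by
    obtain ⟨g, rfl⟩ := E.surj a
    obtain ⟨y, n, hn, rfl⟩ := hf.prod g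
    have h1 : ι y ∈ π.ker := by
      rw [E.ker]
      exact Subgroup.mem_sup_left ⟨y, rfl⟩
    refine ⟨⟨n, hn⟩, ?_⟩
    rw [map_mul, MonoidHom.mem_ker.1 h1, one_mul]
    rfl
  ker := by
    rw [← MonoidHom.comap_ker, hf.range_fN]
    apply le_antisymm
    · intro x hx
      rw [Subgroup.mem_comap, E.ker_eq] at hx
      obtain ⟨⟨y, z⟩, hx⟩ := hx
      have h1 := Syl.central_le P E.cen z.2
      have h2 : x = (x * ⟨z, h1⟩⁻¹) * ⟨z, h1⟩ := by rw [inv_mul_cancel_right]
      rw [h2]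
      refine Subgroup.mul_mem_sup ⟨y, ?_⟩ z.2
      exact eq_mul_inv_of_mul_eq hx
    · rw [E.ker]
      exact sup_le (Subgroup.comap_mono le_sup_left) (Subgroup.comap_mono le_sup_right)
  cyc := E.cyc
  cop := E.cop

/-- **The row `²G₂(q)`.** -/
theorem sree : SRee.{u} := by
  rintro p hp G _ _ S M B P hS hyp hrk ⟨hPS, rfl, K, _, _, m, hm, hK, ⟨e⟩⟩
  have hZn : (pPrimeCore 3 G).Normal := Lib.Cores.pPrimeCore_normal 3
  have := hS.soc.normal
  have := hS.soc.simple
  have hP1 := Syl.ne_bot_of_rk hrk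
  have hcen : pPrimeCore 3 G ≤ Subgroup.centralizer ((P : Subgroup G) : Set G) :=
    hS.cen.trans (Subgroup.center_le_centralizer _)
  have hsit : H723.TI.Sit 3 P S := ⟨hyp.ti, hcen, hS.soc.normal, hS.soc.simple, hS.soc.nonab, hS.soc.cent⟩
  have hE := H681.TI.normalClosure_eq P hsit hP1 hPS
  have hp1 := H681.TI.perfect_of_simple hS.soc.nonab
  have hperf := H681.TI.perfect_normalClosure P hcen hE hp1
  have hdis := H681.TI.disj_of_mult P hcen hE hp1 e (S2113.result hm hK)
  set E := Subgroup.normalClosure ((P : Subgroup G) : Set G) with hEdef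
  have hEn : E.Normal := Subgroup.normalClosure_normal
  have hPE : (P : Subgroup G) ≤ E := Subgroup.le_normalClosure
  have hd : ∀ x : E, (x : G) ∈ pPrimeCore 3 G → x = 1 := fun x hx =>
    Subtype.ext (Subgroup.mem_bot.1 (hdis ▸ (⟨hx, x.2⟩ : (x : G) ∈ pPrimeCore 3 G ⊓ E)))
  let ρ : E →* S := (MulEquiv.subgroupCongr hE).toMonoidHom.comp ((QuotientGroup.mk' (pPrimeCore 3 G)).subgroupMap E)
  have hρ : Function.Bijective ρ := ⟨(injective_iff_map_eq_one ρ).2 fun x hx =>
    hd x ((QuotientGroup.eq_one_iff _).1 (congrArg Subtype.val hx)), (MulEquiv.subgroupCongr hE).surjective.comp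
      ((QuotientGroup.mk' (pPrimeCore 3 G)).subgroupMap_surjective E)⟩
  let P₀ : Sylow 3 E := P.subtype hPE
  have hmap : (P₀ : Subgroup E).map E.subtype = P := by
    rw [show (P₀ : Subgroup E) = (P : Subgroup G).subgroupOf E from rfl, Subgroup.subgroupOf_map_subtype,
      inf_eq_left.2 hPE]
  obtain ⟨s1, s2, s3⟩ := shape_sylow hm hK ((MulEquiv.ofBijective ρ hρ).trans e) hperf P₀
  have hr : E.subtype.range.Normal := by rw [Subgroup.range_subtype]; exact hEn
  have hf := Syl.hom_of_sylow E.subtype hr P₀ P hmap (fun y _ hy => Subtype.ext hy)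
    (by rw [Subgroup.ker_subtype]; exact bot_le)
  let π : G →* (G ⧸ pPrimeCore 3 G) ⧸ S := (QuotientGroup.mk' S).comp (QuotientGroup.mk' (pPrimeCore 3 G))
  have hπ : Function.Surjective π := (QuotientGroup.mk'_surjective _).comp (QuotientGroup.mk'_surjective _)
  have hker : π.ker = E.subtype.range ⊔ pPrimeCore 3 G := by
    rw [← MonoidHom.comap_ker, QuotientGroup.ker_mk', ← hE, Subgroup.comap_map_eq, QuotientGroup.ker_mk',
      Subgroup.range_subtype]
  have hidx : ¬ 3 ∣ E.subtype.range.index := by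
    rw [Subgroup.range_subtype]
    exact fun h1 => P.not_dvd_index (h1.trans (Subgroup.index_dvd_of_le hPE))
  obtain ⟨f, hfi⟩ := H389.RSq.ReeExt.exists_hom hS.soc.cent e
  have hc := H389.RSq.ReeExt.isCyclic_out hm hK
  have X : Ext E.subtype (pPrimeCore 3 G) π := by
    refine ⟨E.subtype_injective, hr, hidx, hS.cen, hd, hπ, hker, isCyclic_of_injective f hfi, ?_⟩
    have h1 := Subgroup.card_dvd_of_injective f hfi
    rw [S2127.result hm hK] at h1
    have h2 : Nat.card ((G ⧸ pPrimeCore 3 G) ⧸ S) ∣ E.subtype.range.index := by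
      rw [← Nat.card_congr (QuotientGroup.quotientKerEquivOfSurjective π hπ).toEquiv, ← Subgroup.index_eq_card, hker]
      exact Subgroup.index_dvd_of_le le_sup_left
    refine Nat.Coprime.mul_right (m := 2) (n := 3) ?_ ?_
    · exact Nat.Coprime.coprime_dvd_left h1 (by simp)
    · exact ((Nat.Prime.coprime_iff_not_dvd Nat.prime_three).2 fun h3 => hidx (h3.trans h2)).symm
  refine Syl.concl_of_counts_cen P hS hyp hrk hPS (H476.TI.Fit.congr e.toEquiv (H476.TI.fit_ree hK))
    fun c h h0 h1 => ?_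
  have h2 : h ≠ 3 * (2 * m + 1) := by
    rw [Syl.card_eq_of_map E.subtype _ _ hmap (fun y _ hy => Subtype.ext hy), P.card_eq_multiplicity] at s3
    rw [Nat.pow_right_injective (by norm_num : 2 ≤ 3) s3] at h1
    exact h1.ne
  rw [X.count s1 h0 h2, (X.norm hf).count s2 h0 h2, s1.card_eq s2 h0 h2]

end Cfsg.Agent.TID.Ree
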