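import Cfsg.Agent.TID.Ree.Uni
import Cfsg.Agent.S0134
import Cfsg.Agent.CharDeep.CliffordCorr

/-!
# S4622, row `SRee`: induction from the Sylow `3`-subgroup to the Borel subgroup (helper3)

* `Bor`: the Borel subgroup; `Bor.pi`: the projection to the torus; `Bor.tw`: conjugation by the torus;
* `Bor.inner_ind`: inner products of induced characters;
* `IsNu`, `IsTau`: the characters of `Uni.lean` and their conjugates.
-/

set_option autoImplicit false
set_option linter.unusedSectionVars false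

namespace Cfsg.Agent.TID.Ree

open Cfsg Cfsg.Agent.Characters.Core Cfsg.Agent.H672
open Cfsg.Agent.LieRecognition Cfsg.Agent.LieRecognition.ReeAbs Cfsg.Agent.LieRecognition.ReeSplit
open scoped ComplexConjugate

universe u

variable {K : Type*} [Field K] [Fintype K] {m : ℕ} {X : Type u} [Group X]

/-- A character of norm two. -/
theorem exists_add_of_norm_two [Fintype X] {Θ : X → ℂ} (hΘ : IsCharacter X Θ) (h2 : classInner Θ Θ = 2) :
    ∃ a b : IrrCharacter X, a ≠ b ∧ Θ = (a : X → ℂ) + (b : X → ℂ) := by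
  classical
  have := finite_irr (G := X)
  have := Fintype.ofFinite (IrrCharacter X)
  obtain ⟨n, hn⟩ := exists_nat_comb hΘ
  have h1 : ∑ χ, (n χ : ℤ) ^ 2 = 2 := by
    have h3 : Θ = ∑ χ : IrrCharacter X, (n χ : ℂ) • (χ : X → ℂ) := by
      rw [hn]
      simp only [Nat.cast_smul_eq_nsmul]
    rw [h3, classInner_sum_smul_sum_smul] at h2
    have h4 : ((∑ χ, (n χ : ℤ) ^ 2 : ℤ) : ℂ) = (2 : ℤ) := by
      push_cast
      rw [← h2]
      exact Finset.sum_congr rfl fun χ _ => by rw [map_natCast, sq]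
    exact_mod_cast h4
  have h3 : ∀ χ, (n χ : ℤ) = 0 ∨ (n χ : ℤ) = 1 ∨ (n χ : ℤ) = -1 := fun χ => sq_le_three (le_trans
    (Finset.single_le_sum (f := fun χ => (n χ : ℤ) ^ 2) (fun _ _ => sq_nonneg _) (Finset.mem_univ χ)) (by omega))
  have h4 := card_supp _ h3
  rw [h1] at h4
  have h5 : (Finset.univ.filter fun χ => (n χ : ℤ) ≠ 0).card = 2 := by exact_mod_cast h4
  obtain ⟨a, b, hab, h6⟩ := Finset.card_eq_two.1 h5
  have h7 : ∀ χ, χ = a ∨ χ = b → n χ = 1 := by
    intro χ hχ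
    have h8 : χ ∈ Finset.univ.filter fun χ => (n χ : ℤ) ≠ 0 := by
      rw [h6]
      simpa using hχ
    have h9 := (Finset.mem_filter.1 h8).2
    rcases h3 χ with h | h | h <;> omega
  refine ⟨a, b, hab, ?_⟩
  rw [hn, ← Finset.sum_subset (Finset.subset_univ {a, b}), Finset.sum_pair hab, h7 a (Or.inl rfl), h7 b (Or.inr rfl),
    one_nsmul, one_nsmul]
  intro χ _ hχ
  rw [← h6, Finset.mem_filter] at hχ
  have : n χ = 0 := by
    by_contra h
    exact hχ ⟨Finset.mem_univ _, by exact_mod_cast h⟩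
  rw [this, zero_nsmul]

/-- The Borel subgroup. -/
structure Bor (m : ℕ) (U : K → K → K → X) (h : Kˣ → X) (P : Subgroup X) : Prop where
  uni : Uni m U P
  h_mul : ∀ a b, h (a * b) = h a * h b
  h_U : ∀ (a : Kˣ) (t u v : K), h a * U t u v =
    U ((a : K) ^ (3 ^ (m + 1)) * t) ((a : K) ^ (3 ^ (m + 1) + 3) * u)
      ((a : K) ^ (2 * 3 ^ (m + 1) + 3) * v) * h a
  surj : ∀ x, ∃ t u v a, x = U t u v * h a
  inj : ∀ t u v a t' u' v' a', U t u v * h a = U t' u' v' * h a' → a = a'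

namespace Bor

variable {U : K → K → K → X} {h : Kˣ → X} {P : Subgroup X} (D : Bor m U h P)

include D in
theorem h_one : h 1 = 1 := by
  have := D.h_mul 1 1
  rw [mul_one] at this
  exact left_eq_mul.mp this

include D in
theorem h_conj (a : Kˣ) {x : X} (hx : x ∈ P) : h a * x * (h a)⁻¹ ∈ P := by
  obtain ⟨t, u, v, rfl⟩ := (D.uni.mem x).1 hx
  rw [D.h_U, mul_inv_cancel_right]
  exact (D.uni.mem _).2 ⟨_, _, _, rfl⟩

include D in
theorem normal : P.Normal := ⟨by
  intro x hx g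
  obtain ⟨t, u, v, a, rfl⟩ := D.surj g
  have h1 : U t u v * h a * x * (U t u v * h a)⁻¹ = U t u v * (h a * x * (h a)⁻¹) * (U t u v)⁻¹ := by group
  rw [h1]
  exact P.mul_mem (P.mul_mem (D.uni.uu t u v).2 (D.h_conj a hx)) (P.inv_mem (D.uni.uu t u v).2)⟩

/-- the normal form -/
noncomputable def eqv : P × Kˣ ≃ X :=
  Equiv.ofBijective (fun p => (p.1 : X) * h p.2) ⟨by
    rintro ⟨x, a⟩ ⟨y, b⟩ hxy
    obtain ⟨t, u, v, rfl⟩ := D.uni.exists_uu x
    obtain ⟨t', u', v', rfl⟩ := D.uni.exists_uu y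
    have h1 : a = b := D.inj _ _ _ _ _ _ _ _ hxy
    subst h1
    exact Prod.ext (Subtype.ext (mul_right_cancel hxy)) rfl, fun x => by
    obtain ⟨t, u, v, a, rfl⟩ := D.surj x
    exact ⟨(D.uni.uu t u v, a), rfl⟩⟩

theorem eqv_apply (y : P) (a : Kˣ) : D.eqv (y, a) = (y : X) * h a := rfl

theorem co_mul (y : P) (a : Kˣ) : D.eqv.symm ((y : X) * h a) = (y, a) := D.eqv.symm_apply_apply (y, a)

include D in
theorem exists_mul (x : X) : ∃ (y : P) (a : Kˣ), x = (y : X) * h a := by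
  obtain ⟨t, u, v, a, rfl⟩ := D.surj x
  exact ⟨D.uni.uu t u v, a, rfl⟩

include D in
theorem finite : Finite X := by
  have := D.uni.finite_P
  exact Finite.of_equiv _ D.eqv

include D in
theorem card_X : Nat.card X = Fintype.card K ^ 3 * (Fintype.card K - 1) := by
  rw [← Nat.card_congr D.eqv, Nat.card_prod, D.uni.card_P, Nat.card_units, Nat.card_eq_fintype_card]

include D in
theorem index_P : P.index = Fintype.card K - 1 := by
  have h1 := P.card_mul_index
  rw [D.card_X, D.uni.card_P] at h1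
  exact Nat.eq_of_mul_eq_mul_left (pow_pos Fintype.card_pos 3) h1

/-- the projection to the torus -/
noncomputable def pi : X →* Kˣ := MonoidHom.mk' (fun x => (D.eqv.symm x).2) (by
  intro x y
  obtain ⟨x, a, rfl⟩ := D.exists_mul x
  obtain ⟨y, b, rfl⟩ := D.exists_mul y
  have h1 : (x : X) * h a * (y * h b) = ((x * ⟨h a * y * (h a)⁻¹, D.h_conj a y.2⟩ : P) : X) * h (a * b) := by
    rw [D.h_mul, Subgroup.coe_mul]
    group
  rw [h1, co_mul, co_mul, co_mul])

theorem pi_mul (y : P) (a : Kˣ) : D.pi ((y : X) * h a) = a := by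
  change (D.eqv.symm _).2 = a
  rw [co_mul]

theorem pi_h (a : Kˣ) : D.pi (h a) = a := by
  have := D.pi_mul 1 a
  rwa [OneMemClass.coe_one, one_mul] at this

theorem pi_eq_one (x : X) : D.pi x = 1 ↔ x ∈ P := by
  obtain ⟨y, a, rfl⟩ := D.exists_mul x
  rw [pi_mul]
  constructor
  · rintro rfl
    rw [D.h_one, mul_one]
    exact y.2
  · intro hx
    have h1 := D.pi_mul ⟨_, hx⟩ 1
    rw [D.h_one, mul_one, pi_mul] at h1
    exact h1

/-- conjugation by the torus -/
def cn (a : Kˣ) : P ≃* P := (haveI := D.normal; MulAut.conjNormal (h a) : MulAut P)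

theorem coe_cn (a : Kˣ) (x : P) : (D.cn a x : X) = h a * x * (h a)⁻¹ := rfl

theorem cn_uu (a : Kˣ) (t u v : K) : D.cn a (D.uni.uu t u v) =
    D.uni.uu ((a : K) ^ (3 ^ (m + 1)) * t) ((a : K) ^ (3 ^ (m + 1) + 3) * u) ((a : K) ^ (2 * 3 ^ (m + 1) + 3) * v) := by
  apply Subtype.ext
  rw [coe_cn, Uni.coe_uu, D.h_U, mul_inv_cancel_right, Uni.coe_uu]

theorem cn_one (x : P) : D.cn 1 x = x := by
  apply Subtype.ext
  rw [coe_cn, D.h_one, one_mul, inv_one, mul_one]

/-- the conjugate character -/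
noncomputable def tw (a : Kˣ) (β : IrrCharacter P) : IrrCharacter P :=
  ⟨(β : P → ℂ) ∘ D.cn a, isIrr_comp (D.cn a).toMonoidHom (D.cn a).surjective β.2⟩

theorem tw_apply (a : Kˣ) (β : IrrCharacter P) (x : P) : (D.tw a β : P → ℂ) x = (β : P → ℂ) (D.cn a x) := rfl

theorem tw_one (β : IrrCharacter P) : D.tw 1 β = β := by
  apply Subtype.ext
  funext x
  rw [tw_apply, cn_one]

variable [Fintype X] [Fintype P] [DecidableEq K]

theorem ind_coe (β : IrrCharacter P) (x : P) :
    indFun P (β : P → ℂ) x = ∑ a : Kˣ, (D.tw a β : P → ℂ) x := by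
  have := D.normal
  rw [CharactersDeep.NormalInd.indFun_coe, ← D.eqv.sum_comp, Fintype.sum_prod_type]
  have h1 : ∀ (y : P) (a : Kˣ), (β : P → ℂ) ⟨D.eqv (y, a) * x * (D.eqv (y, a))⁻¹,
      this.conj_mem (x : X) x.2 (D.eqv (y, a))⟩ = (D.tw a β : P → ℂ) x := by
    intro y a
    rw [tw_apply, ← isIrr_isClassFunction β.2 (D.cn a x) y]
    refine congrArg (β : P → ℂ) (Subtype.ext ?_)
    simp only [eqv_apply, Subgroup.coe_mul, Subgroup.coe_inv, coe_cn]
    group
  simp only [h1]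
  rw [Finset.sum_const, Finset.card_univ, ← Nat.card_eq_fintype_card, nsmul_eq_mul,
    inv_mul_cancel_left₀ card_ne_zero_complex]

theorem ind_res (β : IrrCharacter P) :
    (fun x : P => indFun P (β : P → ℂ) x) = ∑ a : Kˣ, (D.tw a β : P → ℂ) := by
  funext x
  rw [D.ind_coe, Finset.sum_apply]

open Classical in
/-- **Inner products of induced characters.** -/
theorem inner_ind (α β : IrrCharacter P) : classInner (indFun P (α : P → ℂ)) (indFun P (β : P → ℂ)) =
    ((Finset.univ.filter fun a : Kˣ => α = D.tw a β).card : ℂ) := by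
  rw [CharactersDeep.NormalInd.classInner_indFun P _ _ (CharactersDeep.NormalInd.indFun_isClassFunction P _),
    D.ind_res, classInner_sum_right, Finset.card_filter]
  push_cast
  refine Finset.sum_congr rfl fun a _ => ?_
  rw [classInner_irr α.2 (D.tw a β).2]
  by_cases hab : α = D.tw a β
  · rw [if_pos hab, if_pos (congrArg Subtype.val hab)]
  · rw [if_neg hab, if_neg fun h => hab (Subtype.ext h)]

theorem inner_ind_zero {α β : IrrCharacter P} (hne : ∀ a, α ≠ D.tw a β) :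
    classInner (indFun P (α : P → ℂ)) (indFun P (β : P → ℂ)) = 0 := by
  classical
  rw [D.inner_ind, Finset.filter_false_of_mem fun a _ => hne a, Finset.card_empty, Nat.cast_zero]

theorem irr_ind {α : IrrCharacter P} (hne : ∀ a, α = D.tw a α → a = 1) :
    IsIrrCharacter X (indFun P (α : P → ℂ)) := by
  classical
  refine isIrr_of_classInner_self (CharDeep.CliffordCorr.isCharacter_indFun P (isIrr_isCharacter α.2)) ?_
  rw [D.inner_ind]
  have h1 : (Finset.univ.filter fun a : Kˣ => α = D.tw a α) = {1} := by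
    ext a
    simp only [Finset.mem_filter, Finset.mem_univ, true_and, Finset.mem_singleton]
    exact ⟨hne a, by rintro rfl; rw [tw_one]⟩
  rw [h1, Finset.card_singleton, Nat.cast_one]

/-- the multiplicities of conjugate characters are the same -/
theorem inner_tw {χ : X → ℂ} (hχ : IsClassFunction X χ) (a : Kˣ) (β : IrrCharacter P) :
    classInner (D.tw a β : P → ℂ) (fun x : P => χ x) = classInner (β : P → ℂ) (fun x : P => χ x) := by
  rw [classInner_def, classInner_def]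
  congr 1
  refine Fintype.sum_equiv (D.cn a).toEquiv _ _ fun x => ?_
  rw [tw_apply]
  change _ = (β : P → ℂ) (D.cn a x) * conj (χ (D.cn a x))
  rw [coe_cn, hχ]

end Bor

/-! ### the characters of degree `3 ^ m` and `q` -/

section nu

variable {U : K → K → K → X} {h : Kˣ → X} {P : Subgroup X} [DecidableEq K]

/-- the values of `ν_s` -/
def IsNu (D : Uni m U P) (e : AddChar K ℂ) (s : K) (ν : IrrCharacter P) : Prop :=
  ∀ t u v, (ν : P → ℂ) (D.uu t u v) = if t ^ 3 = t then (3 : ℂ) ^ m * e (u - t ^ 2 + s * t) else 0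

/-- the values of `τ` -/
def IsTau (D : Uni m U P) (e : AddChar K ℂ) (τ : IrrCharacter P) : Prop :=
  ∀ t u v, (τ : P → ℂ) (D.uu t u v) = if t = 0 ∧ u = 0 then (Fintype.card K : ℂ) * e v else 0

variable {e : AddChar K ℂ} {s s' : K} {ν ν' τ : IrrCharacter P}

theorem IsNu.mid {D : Uni m U P} (H : IsNu D e s ν) (u v : K) : (ν : P → ℂ) (D.uu 0 u v) = (3 : ℂ) ^ m * e u := by
  rw [H, if_pos (by ring)]
  congr 2
  ring

theorem IsNu.one {D : Uni m U P} (H : IsNu D e s ν) : (ν : P → ℂ) 1 = (3 : ℂ) ^ m := by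
  rw [← D.uu_zero, H.mid, e.map_zero_eq_one, mul_one]

theorem IsNu.ext {D : Uni m U P} (H : IsNu D e s ν) (H' : IsNu D e s ν') : ν = ν' := by
  apply Subtype.ext
  funext x
  obtain ⟨t, u, v, rfl⟩ := D.exists_uu x
  rw [H, H']

theorem IsNu.e_eq {D : Uni m U P} (H : IsNu D e s ν) (H' : IsNu D e s' ν) : e s = e s' := by
  have h1 := (H 1 1 0).symm.trans (H' 1 1 0)
  rw [if_pos (by ring), if_pos (by ring)] at h1
  have h2 := mul_left_cancel₀ (pow_ne_zero m (by norm_num : (3 : ℂ) ≠ 0)) h1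
  rwa [show (1 : K) - 1 ^ 2 + s * 1 = s by ring, show (1 : K) - 1 ^ 2 + s' * 1 = s' by ring] at h2

theorem IsNu.tw_neg (D : Bor m U h P) (H : IsNu D.uni e s ν) : IsNu D.uni e (-s) (D.tw (-1) ν) := by
  intro t u v
  have h1 : Odd (3 ^ (m + 1)) := odd_three_pow _
  have h2 : Even (3 ^ (m + 1) + 3) := h1.add_odd (by decide)
  rw [Bor.tw_apply, Bor.cn_uu, H, Units.val_neg, Units.val_one, h1.neg_one_pow, h2.neg_one_pow]
  by_cases ht : t ^ 3 = t
  · rw [if_pos ht, if_pos (by linear_combination -ht)]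
    congr 2
    ring
  · rw [if_neg ht, if_neg fun h3 => ht (by linear_combination -h3)]

theorem IsNu.tw_cases (D : Bor m U h P) (hK : Fintype.card K = 3 ^ (2 * m + 1)) (he : e ≠ 1) (H : IsNu D.uni e s ν)
    (H' : IsNu D.uni e s' ν') {a : Kˣ} (ha : ν = D.tw a ν') : a = 1 ∨ a = -1 := by
  have h1 : (1 : K) = (a : K) ^ (3 ^ (m + 1) + 3) := by
    refine eq_of_e he fun u => ?_
    have h2 := H.mid u 0
    rw [ha, Bor.tw_apply, Bor.cn_uu, mul_zero, H'.mid] at h2
    rw [one_mul]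
    exact (mul_left_cancel₀ (pow_ne_zero m (by norm_num : (3 : ℂ) ≠ 0)) h2).symm
  exact eq_one_or_neg_one_of_sq (sq_eq_one_of_pow_add_three hK a (Units.ext (by
    rw [Units.val_pow_eq_pow_val, ← h1, Units.val_one])))

theorem IsNu.ne_tw_cj [Finite P] (D : Bor m U h P) (hK : Fintype.card K = 3 ^ (2 * m + 1)) (he : e ≠ 1)
    (H : IsNu D.uni e s ν) (H' : IsNu D.uni e s' ν') (a : Kˣ) : ν ≠ D.tw a (cj ν') := by
  intro ha
  have h1 : (1 : K) = -(a : K) ^ (3 ^ (m + 1) + 3) := by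
    refine eq_of_e he fun u => ?_
    have h2 := H.mid u 0
    rw [ha, Bor.tw_apply, Bor.cn_uu, mul_zero, cj_apply, H'.mid, map_mul, map_pow, ← AddChar.map_neg_eq_conj,
      show conj (3 : ℂ) = 3 from map_ofNat _ 3] at h2
    rw [one_mul, neg_mul]
    exact (mul_left_cancel₀ (pow_ne_zero m (by norm_num : (3 : ℂ) ≠ 0)) h2).symm
  have h2 : Even (3 ^ (m + 1) + 3) := (odd_three_pow (m + 1)).add_odd (by decide)
  obtain ⟨k, hk⟩ := h2
  apply not_isSquare_neg_one hK
  refine ⟨(a : K) ^ k, ?_⟩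
  rw [← pow_add, ← hk, h1, neg_neg]

theorem e_neg_ne (hK : Fintype.card K = 3 ^ (2 * m + 1)) (hs : e s ≠ 1) : e s ≠ e (-s) := by
  intro h1
  apply hs
  have h2 : e s = e s * e s * e (-s) := by
    rw [← e.map_add_eq_mul, ← e.map_add_eq_mul]
    congr 1
    ring
  have h3 : e s * e s * e s = 1 := by
    rw [← e.map_add_eq_mul, ← e.map_add_eq_mul, ← e.map_zero_eq_one]
    congr 1
    linear_combination s * three_eq_zero hK
  rw [h2, ← h1, h3]

theorem IsTau.one {D : Uni m U P} (H : IsTau D e τ) : (τ : P → ℂ) 1 = Fintype.card K := by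
  rw [← D.uu_zero, H, if_pos ⟨rfl, rfl⟩, e.map_zero_eq_one, mul_one]

theorem IsTau.tw_eq (D : Bor m U h P) (hK : Fintype.card K = 3 ^ (2 * m + 1)) (he : e ≠ 1) (H : IsTau D.uni e τ)
    (a : Kˣ) (ha : τ = D.tw a τ) : a = 1 := by
  have h1 : (1 : K) = (a : K) ^ (2 * 3 ^ (m + 1) + 3) := by
    refine eq_of_e he fun v => ?_
    have h2 := H 0 0 v
    rw [if_pos ⟨rfl, rfl⟩] at h2
    conv_lhs at h2 => rw [ha]
    rw [Bor.tw_apply, Bor.cn_uu, mul_zero, mul_zero, H, if_pos ⟨rfl, rfl⟩] at h2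
    rw [one_mul]
    exact (mul_left_cancel₀ (Nat.cast_ne_zero.2 Fintype.card_ne_zero) h2).symm
  exact eq_one_of_mul_eq' hK (t := 1) (by rw [← h1, mul_one]) one_ne_zero

/-- the linear character as an irreducible character -/
noncomputable def Uni.th (D : Uni m U P) (e : AddChar K ℂ) : IrrCharacter P :=
  ⟨fun x => (D.theta e x : ℂ), Characters.Linear.isIrrCharacter_hom _⟩

theorem Uni.th_uu (D : Uni m U P) (e : AddChar K ℂ) (t u v : K) : (D.th e : P → ℂ) (D.uu t u v) = e t :=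
  D.theta_uu e t u v

theorem th_tw_eq (D : Bor m U h P) (hK : Fintype.card K = 3 ^ (2 * m + 1)) (he : e ≠ 1)
    (a : Kˣ) (ha : D.uni.th e = D.tw a (D.uni.th e)) : a = 1 := by
  have h1 : (1 : K) = (a : K) ^ (3 ^ (m + 1)) := by
    refine eq_of_e he fun t => ?_
    have h2 := D.uni.th_uu e t 0 0
    rw [ha, Bor.tw_apply, Bor.cn_uu, Uni.th_uu] at h2
    rw [one_mul, h2]
  exact eq_one_of_mul_eq hK (t := 1) (by rw [← h1, mul_one]) one_ne_zero

end nu

end Cfsg.Agent.TID.Ree
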