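import Cfsg.Agent.TID.Ree.Gen
import Cfsg.Agent.H732.RankOneDeg

/-!
# S4622, row `SRee`: groups of rank one (helper3)

* `inner_ind_ti`: inner products of functions induced from the Borel subgroup;
* `tri`: the principal series;
* `arith`: the degrees of the two constituents of the induced quadratic character.
-/

set_option autoImplicit false
set_option linter.unusedSectionVars false

namespace Cfsg.Agent.TID.Ree

open Cfsg Cfsg.Agent.Characters.Core Cfsg.Agent.H672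
open Cfsg.Agent.LieRecognition.RankOneAbstract Cfsg.Agent.H732.RankOneGG
open scoped ComplexConjugate

universe u

variable {G : Type u} [Group G] {H U T : Subgroup G} {w : G} [Fintype G] [Fintype H]

theorem ind_of_ne (D : Data H U w) {β : H → ℂ} (hβ : IsClassFunction H β) {x : H} (hx : (x : G) ∈ U)
    (hx1 : x ≠ 1) : indFun H β x = β x := by
  classical
  rw [indFun_apply]
  have h1 : ∑ g : G, extendByZero H β (g⁻¹ * x * g) = ∑ g : G, extendByZero H (fun _ => β x) g := by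
    refine Finset.sum_congr rfl fun g _ => ?_
    by_cases hg : g ∈ H
    · rw [extendByZero_of_mem H _ hg, extendByZero_of_mem H _ (H.mul_mem (H.mul_mem (H.inv_mem hg) x.2) hg),
        ← hβ x (⟨g, hg⟩ : H)⁻¹]
      congr 1
      apply Subtype.ext
      simp
    · rw [extendByZero_of_notMem H _ hg, extendByZero_of_notMem H _ fun h1 =>
        hg (H710.Cuspidal.mem_of_conj D hx (fun h2 => hx1 (Subtype.ext h2)) h1)]
  rw [h1, CharactersDeep.NormalInd.sum_extendByZero, Finset.sum_const, Finset.card_univ, ← Nat.card_eq_fintype_card,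
    nsmul_eq_mul, inv_mul_cancel_left₀ card_ne_zero_complex]

theorem inner_ind_ti (D : Data H U w) {α β : H → ℂ} (hβ : IsClassFunction H β)
    (hα : ∀ x : H, (x : G) ∉ U → α x = 0) : classInner (indFun H α) (indFun H β) =
      classInner α β + (Nat.card H : ℂ)⁻¹ * (Nat.card U * (α 1 * conj (β 1))) := by
  classical
  rw [CharactersDeep.NormalInd.classInner_indFun H _ _ (CharactersDeep.NormalInd.indFun_isClassFunction H _),
    classInner_def, classInner_def, ← mul_add]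
  congr 1
  rw [← Finset.add_sum_erase _ _ (Finset.mem_univ (1 : H)), ← Finset.add_sum_erase _ _ (Finset.mem_univ (1 : H)),
    OneMemClass.coe_one, CharactersDeep.NormalInd.indFun_one, D.index]
  have h1 : ∑ x ∈ Finset.univ.erase (1 : H), α x * conj (indFun H β x) =
      ∑ x ∈ Finset.univ.erase (1 : H), α x * conj (β x) := by
    refine Finset.sum_congr rfl fun x hx => ?_
    by_cases hxU : (x : G) ∈ U
    · rw [ind_of_ne D hβ hxU (Finset.ne_of_mem_erase hx)]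
    · rw [hα x hxU, zero_mul, zero_mul]
  rw [h1, map_mul, map_natCast]
  push_cast
  ring

variable [Fintype U] [Fintype (IrrCharacter G)]

theorem ind_eq_add' (D : Data H U w) (hT : ∀ g, g ∈ T ↔ g ∈ H ∧ w⁻¹ * g * w ∈ H) (f : H →* ℂˣ) (hf : Inv H U w f)
    {θ₁ θ₂ : IrrCharacter G} (hne : θ₁ ≠ θ₂) (h1 : mu H f θ₁ = 1) (h2 : mu H f θ₂ = 1) {χ : IrrCharacter G}
    (h3 : χ ≠ θ₁) (h4 : χ ≠ θ₂) : mu H f χ = 0 := by
  classical
  have h5 := H732.RankOneGG.sum_sq_inv D hT f hf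
  have h6 : ∑ x ∈ ({χ, θ₁, θ₂} : Finset (IrrCharacter G)), mu H f x ^ 2 ≤ ∑ x, mu H f x ^ 2 :=
    Finset.sum_le_sum_of_subset (Finset.subset_univ _)
  rw [Finset.sum_insert (by simp [h3, h4]), Finset.sum_pair hne, h1, h2, h5] at h6
  have h7 : mu H f χ ^ 2 = 0 := by omega
  exact pow_eq_zero_iff two_ne_zero |>.1 h7

theorem mu_cj {L : Subgroup G} [Fintype L] (f : L →* ℂˣ) (hf : ∀ x, conj (f x : ℂ) = f x) (χ : IrrCharacter G) :
    mu L f (cj χ) = mu L f χ := by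
  have h1 := mu_spec L f (cj χ)
  have h2 := mu_spec L f χ
  have h3 := inner_conj (fun x : L => (f x : ℂ)) (fun x : L => (χ : G → ℂ) x)
  simp only [hf] at h3
  rw [h2, map_natCast] at h3
  have h4 : ((mu L f (cj χ) : ℕ) : ℂ) = mu L f χ := by
    rw [← h1, ← h3]
    rfl
  exact_mod_cast h4

/-- the partner of a real constituent is real -/
theorem real_of_split (D : Data H U w) (hT : ∀ g, g ∈ T ↔ g ∈ H ∧ w⁻¹ * g * w ∈ H) (f : H →* ℂˣ) (hf : Inv H U w f)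
    (hr : ∀ x, conj (f x : ℂ) = f x) {θ₁ θ₂ : IrrCharacter G} (hne : θ₁ ≠ θ₂) (h1 : mu H f θ₁ = 1)
    (h2 : mu H f θ₂ = 1) (h3 : cj θ₂ = θ₂) : cj θ₁ = θ₁ := by
  by_contra h4
  have h5 : cj θ₁ ≠ θ₂ := by
    intro h6
    apply hne
    rw [← cj_cj θ₁, h6, h3]
  have h6 := ind_eq_add' D hT f hf hne h1 h2 h4 h5
  rw [mu_cj f hr, h1] at h6
  exact one_ne_zero h6

/-- **The principal series.** -/
theorem tri (D : Data H U w) (hT : ∀ g, g ∈ T ↔ g ∈ H ∧ w⁻¹ * g * w ∈ H)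
    (hab : ∀ h ∈ H, ∀ k ∈ H, ∃ u ∈ U, h * k = k * h * u)
    (hr : ∀ f : H →* ℂˣ, Inv H U w f → ∀ x, conj (f x : ℂ) = f x) (ψ : U →* ℂˣ) (hψ1 : ψ ≠ 1)
    (hreal : ∀ χ : IrrCharacter G, mu U ψ χ = 1 → cj χ = χ) {χ : IrrCharacter G} (h : mu U 1 χ ≠ 0) :
    cj χ = χ ∧ ((mu U 1 χ = 2 ∧ mu U ψ χ = 1) ∨ mu U 1 χ = 1) := by
  classical
  obtain ⟨f, hf1, hf2⟩ := exists_lin D hab χ h
  by_cases hinv : ∀ (d : G) (hd : d ∈ H) (hdw : w * d * w⁻¹ ∈ H), f ⟨w * d * w⁻¹, hdw⟩ = f ⟨d, hd⟩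
  · have hf : Inv H U w f := ⟨hf1, hinv⟩
    obtain ⟨θ₁, θ₂, hne, h1, h2, h3, h4, -, h6, -⟩ := H732.RankOneGG.exists_split D hT f hf ψ hψ1
    have r2 := hreal θ₂ h6
    have r1 := real_of_split D hT f hf (hr f hf) hne h1 h2 r2
    by_cases e1 : χ = θ₁
    · rw [e1]
      exact ⟨r1, Or.inr h3⟩
    · by_cases e2 : χ = θ₂
      · rw [e2]
        exact ⟨r2, Or.inr h4⟩
      · exact absurd (ind_eq_add' D hT f hf hne h1 h2 e1 e2) hf2
  · push Not at hinv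
    obtain ⟨d, hd, hdw, hne⟩ := hinv
    have hi := ind_irr D f hd hdw hne
    have h1 : ∀ χ' : IrrCharacter G, mu H f χ' = if χ' = ⟨_, hi⟩ then 1 else 0 := by
      intro χ'
      have h2 := ind_inner H f χ'
      split_ifs with h3
      · rw [h3] at h2 ⊢
        rw [classInner_irr_self hi] at h2
        exact_mod_cast h2.symm
      · rw [classInner_irr_ne hi χ'.2 fun h4 => h3 (Subtype.ext h4).symm] at h2
        exact_mod_cast h2.symm
    have h2 : χ = ⟨_, hi⟩ := by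
      by_contra h3
      rw [h1, if_neg h3] at hf2
      exact hf2 rfl
    have s1 := sum_mul D f hf1 1
    have s2 := sum_mul D f hf1 ψ
    simp only [h1, ite_mul, one_mul, zero_mul, Finset.sum_ite_eq', Finset.mem_univ, if_true] at s1 s2
    rw [if_neg hψ1, ← h2] at s2
    rw [← h2] at s1
    exact ⟨hreal χ s2, Or.inl ⟨s1, s2⟩⟩

/-! ### arithmetic -/

theorem pow_cases {k j c : ℕ} (hk : 1 ≤ k) (hc : 3 ^ k = c + 1) (h : c ∣ 3 ^ j - 1) : k ∣ j := by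
  have h1 : 3 ^ j ≡ 3 ^ (j % k) [MOD c] := by
    conv_lhs => rw [← Nat.div_add_mod j k, pow_add, pow_mul, hc]
    have h2 : (c + 1) ^ (j / k) ≡ 1 ^ (j / k) [MOD c] := Nat.ModEq.pow _ (by simp [Nat.ModEq])
    have h3 := h2.mul_right (3 ^ (j % k))
    rwa [one_pow, one_mul] at h3
  have h2 : 1 ≡ 3 ^ j [MOD c] := (Nat.modEq_iff_dvd' (Nat.one_le_pow _ _ (by norm_num))).2 h
  have h3 : c ∣ 3 ^ (j % k) - 1 := (Nat.modEq_iff_dvd' (Nat.one_le_pow _ _ (by norm_num))).1 (h2.trans h1)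
  have h4 : 3 ^ (j % k + 1) ≤ 3 ^ k := Nat.pow_le_pow_right (by norm_num) (Nat.mod_lt j hk)
  have h5 : 1 ≤ 3 ^ (j % k) := Nat.one_le_pow _ _ (by norm_num)
  rw [pow_succ, hc] at h4
  have h6 : 3 ^ (j % k) - 1 = 0 := Nat.eq_zero_of_dvd_of_lt h3 (by omega)
  have h7 : 3 ^ (j % k) = 3 ^ 0 := by omega
  exact Nat.dvd_of_mod_eq_zero (Nat.pow_right_injective (by norm_num : 2 ≤ 3) h7)

theorem arith {k c d₁ d₂ x₁ x₂ : ℕ} (hk : 1 ≤ k) (hc : 3 ^ k = c + 1) (hs : d₁ + d₂ = (3 ^ k) ^ 3 + 1)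
    (h1 : d₁ ∣ (3 ^ k) ^ 3 * c * ((3 ^ k) ^ 3 + 1)) (h2 : d₂ ∣ (3 ^ k) ^ 3 * c * ((3 ^ k) ^ 3 + 1))
    (e1 : d₁ = c * x₁ + 1) (e2 : d₂ = c * x₂ + 1) (n1 : ¬ 3 ∣ d₁) (n2 : 3 ∣ d₂) (hd : d₁ ≠ 1) :
    d₂ = d₁ * 3 ^ k := by
  have c1 : Nat.Coprime d₁ c := by rw [e1]; simp
  have c2 : Nat.Coprime d₂ c := by rw [e2]; simp
  have c3 : Nat.Coprime d₁ ((3 ^ k) ^ 3) :=
    Nat.Coprime.pow_right _ (Nat.Coprime.pow_right _ ((Nat.prime_three.coprime_iff_not_dvd.2 n1).symm))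
  obtain ⟨e, he⟩ : d₁ ∣ (3 ^ k) ^ 3 + 1 := (Nat.Coprime.mul_right c3 c1).dvd_of_dvd_mul_left h1
  have hd1 : 0 < d₁ := by omega
  obtain ⟨g, rfl⟩ : ∃ g, e = g + 1 := ⟨e - 1, by
    rcases Nat.eq_zero_or_pos e with h | h
    · rw [h, mul_zero] at he
      omega
    · omega⟩
  have h3 : d₂ = d₁ * g := by
    rw [he, mul_add, mul_one] at hs
    omega
  have h4 : g ∣ (3 ^ k) ^ 3 := by
    rw [he, h3, mul_comm d₁ (g + 1), ← mul_assoc, mul_comm d₁ g] at h2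
    have h5 := Nat.dvd_of_mul_dvd_mul_right hd1 h2
    have h6 : g ∣ (3 ^ k) ^ 3 * c := (by simp : Nat.Coprime g (g + 1)).dvd_of_dvd_mul_right h5
    exact (Nat.Coprime.coprime_dvd_left (Dvd.intro_left _ h3.symm) c2).dvd_of_dvd_mul_right h6
  rw [← pow_mul] at h4
  obtain ⟨j, hj, rfl⟩ := (Nat.dvd_prime_pow Nat.prime_three).1 h4
  have h5 : c ∣ 3 ^ j - 1 := by
    have h6 : 1 ≤ 3 ^ j := Nat.one_le_pow _ _ (by norm_num)
    obtain ⟨y, hy⟩ : ∃ y, 3 ^ j = y + 1 := ⟨3 ^ j - 1, by omega⟩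
    rw [hy, Nat.add_sub_cancel]
    rw [hy, e1, e2] at h3
    have h7 : c * x₂ = c * (x₁ * (y + 1)) + y := by
      have : (c * x₁ + 1) * (y + 1) = c * (x₁ * (y + 1)) + y + 1 := by ring
      omega
    exact (Nat.dvd_add_right (dvd_mul_right c _)).1 (h7 ▸ dvd_mul_right c x₂)
  obtain ⟨i, rfl⟩ := pow_cases hk hc h5
  have hi : i ≤ 3 := Nat.le_of_mul_le_mul_left hj hk
  rw [pow_mul] at h3 he
  have hq : 3 ≤ 3 ^ k := by
    calc 3 = 3 ^ 1 := by norm_num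
      _ ≤ 3 ^ k := Nat.pow_le_pow_right (by norm_num) hk
  generalize 3 ^ k = q at *
  interval_cases i
  · rw [pow_zero, mul_one] at h3
    rw [h3] at n2
    exact absurd n2 n1
  · rw [h3, pow_one]
  · exfalso
    have h6 : q ^ 2 + 1 ∣ q * (q ^ 2 + 1) - (q ^ 3 + 1) :=
      Nat.dvd_sub (dvd_mul_left _ _) (Dvd.intro_left _ he.symm)
    have h7 : q * (q ^ 2 + 1) - (q ^ 3 + 1) = q - 1 := by
      have : q * (q ^ 2 + 1) = q ^ 3 + q := by ring
      omega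
    rw [h7] at h6
    have h8 := Nat.le_of_dvd (by omega) h6
    have h9 : q ≤ q ^ 2 := Nat.le_self_pow two_ne_zero q
    omega
  · exfalso
    apply hd
    have h6 : 1 * (q ^ 3 + 1) = d₁ * (q ^ 3 + 1) := by rw [one_mul, ← he]
    exact (Nat.eq_of_mul_eq_mul_right (by positivity) h6).symm

end Cfsg.Agent.TID.Ree
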