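import Cfsg.Agent.TID.Ree.Lst
import Cfsg.Agent.TID.Ree.Rk1
import Cfsg.Agent.H732.DegRee

/-!
# S4622, row `SRee`: the Gelfand-Graev character (helper3)

* `uni`, `bor`: the data of `Uni.lean` and `Bor.lean` in the Ree group;
* `fs_gg`: the Frobenius-Schur count; `gg_mult`: multiplicity one, and the constituents are real.
-/

set_option autoImplicit false
set_option linter.unusedSectionVars false

namespace Cfsg.Agent.TID.Ree

open Cfsg Cfsg.Agent.Characters.Core Cfsg.Agent.H672
open Cfsg.Agent.LieRecognition Cfsg.Agent.LieRecognition.ReeAbs Cfsg.Agent.LieRecognition.ReeSplit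
  Cfsg.Agent.LieRecognition.ReeSylowThree
open Cfsg.Agent.H732.RankOneGG (mu mu_spec ind_eq_sum)
open Cfsg.Agent.H732.DegRee (hh)
open Cfsg.Agent.H88.RkRee (rank_one)
open scoped ComplexConjugate

universe u

variable {K : Type*} [Field K] [Fintype K] {m : ℕ} {G : Type u} [Group G]
  {U : K → K → K → G} {h : Kˣ → G} {n : G}

theorem uni (D : Data m U h n) : Uni m U (uSub D) :=
  ⟨D.U_mul, fun _ _ _ _ _ _ he => U_injective D he, fun _ => Iff.rfl⟩

/-- the unipotent elements in the Borel subgroup -/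
def UB (D : Data m U h n) (t u v : K) : bSub D := ⟨U t u v, uSub_le_bSub D ⟨t, u, v, rfl⟩⟩

/-- the unipotent radical in the Borel subgroup -/
abbrev PB (D : Data m U h n) : Subgroup (bSub D) := (uSub D).subgroupOf (bSub D)

theorem bor (D : Data m U h n) : Bor m (UB D) (hh D) (PB D) where
  uni := ⟨fun _ _ _ _ _ _ => Subtype.ext (D.U_mul _ _ _ _ _ _),
    fun _ _ _ _ _ _ he => U_injective D (congrArg Subtype.val he),
    fun x => ⟨fun ⟨t, u, v, hx⟩ => ⟨t, u, v, Subtype.ext hx⟩, fun ⟨t, u, v, hx⟩ => ⟨t, u, v, congrArg Subtype.val hx⟩⟩⟩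
  h_mul := map_mul (hh D)
  h_U a t u v := Subtype.ext (D.h_U a t u v)
  surj := by
    rintro ⟨_, t, u, v, a, rfl⟩
    exact ⟨t, u, v, a, rfl⟩
  inj t u v a t' u' v' a' he := (D.inj₁ _ _ _ _ _ _ _ _ (congrArg Subtype.val he)).2.2.2

theorem inner_link (D : Data m U h n) [Fintype (uSub D)] [Fintype (PB D)] (α β : PB D → ℂ) (α' β' : uSub D → ℂ)
    (h1 : ∀ t u v, α ((bor D).uni.uu t u v) = α' ((uni D).uu t u v))
    (h2 : ∀ t u v, β ((bor D).uni.uu t u v) = β' ((uni D).uu t u v)) : classInner α β = classInner α' β' := by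
  rw [(bor D).uni.inner_eq, (uni D).inner_eq]
  simp only [h1, h2]

theorem theta_ne (D : Data m U h n) {e : AddChar K ℂ} (he : e ≠ 1) : (uni D).theta e ≠ 1 := by
  intro h1
  apply he
  ext t
  rw [← (uni D).theta_uu e t 0 0, h1]
  rfl

/-! ### squares -/

theorem sq_left (D : Data m U h n) (hK : Fintype.card K = 3 ^ (2 * m + 1)) (e : AddChar K ℂ) [DecidableEq K]
    (t u v : K) (a : Kˣ) :
    extendByZero (uSub D) (fun x => ((uni D).theta e x : ℂ)) (U t u v * h a * (U t u v * h a)) =
      (if a = 1 then e (2 * t) else 0) + if a = -1 then 1 else 0 := by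
  have h0 : (1 : Kˣ) ≠ -1 := fun h3 => neg_one_ne_one hK (congrArg Units.val h3).symm
  have h1 : U t u v * h a * (U t u v * h a) = U t u v * U ((a : K) ^ (3 ^ (m + 1)) * t)
      ((a : K) ^ (3 ^ (m + 1) + 3) * u) ((a : K) ^ (2 * 3 ^ (m + 1) + 3) * v) * h (a * a) := by
    rw [D.h_mul, mul_assoc, ← mul_assoc (h a), D.h_U]
    simp only [mul_assoc]
  rw [h1, D.U_mul]
  by_cases h2 : a * a = 1
  · rw [h2, D.h_one, mul_one, extendByZero_of_mem _ _ (⟨_, _, _, rfl⟩ : U _ _ _ ∈ uSub D)]
    change ((uni D).theta e ((uni D).uu _ _ _) : ℂ) = _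
    rw [Uni.theta_uu]
    rcases eq_one_or_neg_one_of_sq (a := a) (by rw [sq, h2]) with rfl | rfl
    · rw [if_pos rfl, if_neg h0, add_zero, Units.val_one, one_pow, one_mul, two_mul]
    · rw [if_neg h0.symm, if_pos rfl, zero_add, Units.val_neg, Units.val_one, (odd_three_pow _).neg_one_pow,
        neg_one_mul, add_neg_cancel, e.map_zero_eq_one]
  · rw [extendByZero_of_notMem, if_neg, if_neg, add_zero]
    · rintro rfl
      exact h2 (by simp)
    · rintro rfl
      exact h2 (by simp)
    · rintro ⟨t', u', v', h3⟩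
      rw [← mul_one (U t' u' v'), ← D.h_one] at h3
      exact h2 (D.inj₁ _ _ _ _ _ _ _ _ h3).2.2.2

theorem sq_right (D : Data m U h n) (θ : uSub D →* ℂˣ) (x y : uSub D) (a : Kˣ) [Decidable (y * x = 1)] :
    extendByZero (uSub D) (fun x => (θ x : ℂ)) ((x : G) * h a * n * y * ((x : G) * h a * n * y)) =
      if y * x = 1 then 1 else 0 := by
  have R := rank_one D
  have h1 : h a * n * (h a * n) = 1 := by
    rw [mul_assoc, ← mul_assoc n, D.n_h, mul_assoc, D.n_n, mul_one, ← D.h_mul, mul_inv_cancel, D.h_one]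
  have h0 : (x : G) * h a * n * y ∉ bSub D := by
    intro h2
    have h3 := (bSub D).mul_mem ((bSub D).mul_mem ((bSub D).inv_mem ((bSub D).mul_mem (R.le x.2) (h_mem_bSub D a))) h2)
      ((bSub D).inv_mem (R.le y.2))
    apply R.w_not_mem
    convert h3 using 1
    group
  split_ifs with h2
  · have h3 : (y : G) * x = 1 := congrArg Subtype.val h2
    have h4 : (x : G) * h a * n * y * ((x : G) * h a * n * y) = x * (h a * n * ((y : G) * x) * (h a * n)) * y := by
      group
    rw [h4, h3, mul_one, h1, mul_one, extendByZero_of_mem _ _ ((uSub D).mul_mem x.2 y.2)]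
    change (θ (x * y) : ℂ) = 1
    rw [map_mul, mul_comm, ← map_mul, h2, map_one, Units.val_one]
  · refine extendByZero_of_notMem _ _ fun h3 => ?_
    by_cases h4 : (x : G) * h a * n * y * ((x : G) * h a * n * y) = 1
    · apply h2
      apply Subtype.ext
      apply R.inter _ (y * x).2
      have h5 : h a * n * ((y : G) * x) * (h a * n) = (x : G)⁻¹ * (y : G)⁻¹ := by
        rw [← mul_one (x : G)⁻¹, ← h4]
        group
      have h6 : n⁻¹ * ((y * x : uSub D) : G) * n =
          (h a)⁻¹ * (h a * n * ((y : G) * x) * (h a * n)) * (h a * n * (h a * n))⁻¹ * h a * (n * n) := by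
        rw [Subgroup.coe_mul, inv_eq_of_mul_eq_one_right D.n_n]
        group
      rw [h6, h5, h1, D.n_n, inv_one, mul_one, mul_one]
      exact (bSub D).mul_mem ((bSub D).mul_mem ((bSub D).inv_mem (h_mem_bSub D a))
        (R.le ((uSub D).mul_mem ((uSub D).inv_mem x.2) ((uSub D).inv_mem y.2)))) (h_mem_bSub D a)
    · exact h0 (mem_bSub_of_conj D h3 h3 h4 (by group))

/-- **The Frobenius-Schur count.** -/
theorem fs_gg [Fintype G] (D : Data m U h n) (hK : Fintype.card K = 3 ^ (2 * m + 1)) {e : AddChar K ℂ} (he : e ≠ 1) :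
    fs (indFun (uSub D) fun x => ((uni D).theta e x : ℂ)) = Fintype.card K := by
  classical
  have hq : (Fintype.card K : ℂ) ≠ 0 := Nat.cast_ne_zero.2 Fintype.card_ne_zero
  rw [fs_ind, ← (Equiv.ofBijective _ (param_bijective D)).sum_comp, Fintype.sum_sum_type, card_uSub]
  have h1 : ∀ x : (K × K × K) × Kˣ, extendByZero (uSub D) (fun x => ((uni D).theta e x : ℂ))
      (Equiv.ofBijective _ (param_bijective D) (Sum.inl x) * Equiv.ofBijective _ (param_bijective D) (Sum.inl x)) =
      (if x.2 = 1 then e (2 * x.1.1) else 0) + if x.2 = -1 then 1 else 0 := fun x => sq_left D hK e _ _ _ _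
  have h2 : ∀ x : (K × K × K) × Kˣ × (K × K × K), extendByZero (uSub D) (fun x => ((uni D).theta e x : ℂ))
      (Equiv.ofBijective _ (param_bijective D) (Sum.inr x) * Equiv.ofBijective _ (param_bijective D) (Sum.inr x)) =
      if x.1 = (uni D).eqv.symm ((uni D).eqv x.2.2)⁻¹ then 1 else 0 := by
    intro x
    have h3 := sq_right D ((uni D).theta e) ((uni D).eqv x.1) ((uni D).eqv x.2.2) x.2.1
    simp only [mul_eq_one_iff_inv_eq, eq_comm (b := (uni D).eqv x.1), Equiv.apply_eq_iff_eq_symm_apply] at h3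
    exact h3
  have h3 : ∑ t : K, e (2 * t) = 0 := by
    have h4 : (2 : K) ≠ 0 := by
      intro h5
      apply neg_one_ne_one hK
      linear_combination -h5
    have h6 := AddChar.sum_eq_zero_iff_ne_zero.2 (AddChar.IsPrimitive.of_ne_one he h4)
    simpa only [AddChar.mulShift_apply] using h6
  simp only [h1, h2]
  rw [Fintype.sum_prod_type, Fintype.sum_prod_type_right (α₂ := Kˣ × (K × K × K))]
  simp only [Finset.sum_add_distrib, Finset.sum_ite_eq', Finset.mem_univ, if_true, Finset.sum_const,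
    Finset.card_univ, Fintype.card_prod, Fintype.card_units, nsmul_eq_mul, mul_one]
  rw [Fintype.sum_prod_type_right]
  simp only [h3, Finset.sum_const_zero]
  rw [inv_mul_eq_iff_eq_mul₀ (by rw [Nat.cast_pow]; exact pow_ne_zero 3 hq)]
  push_cast [Nat.cast_sub Fintype.card_pos]
  ring

variable [Fintype G] (D : Data m U h n) [Fintype (uSub D)] [Fintype (bSub D)] [Fintype (PB D)] [DecidableEq K]
  {e : AddChar K ℂ} {Q : ℕ} {φ ψ a b c : IrrCharacter (bSub D)}

theorem res_char (χ : IrrCharacter G) : IsCharacter (bSub D) (fun x : bSub D => (χ : G → ℂ) x) :=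
  isCharacter_comp (bSub D).subtype (isIrr_isCharacter χ.2)

theorem res_class (χ : IrrCharacter G) : IsClassFunction (bSub D) (fun x : bSub D => (χ : G → ℂ) x) :=
  isCharacter_isClassFunction (res_char D χ)

theorem link_phi (H : Pre (bor D) e Q φ ψ a b c) (χ : IrrCharacter G) :
    classInner (φ : bSub D → ℂ) (fun x : bSub D => (χ : G → ℂ) x) = mu (uSub D) ((uni D).theta e) χ := by
  rw [H.phi, CharactersDeep.NormalInd.classInner_indFun (PB D) _ _ (res_class D χ), ← mu_spec]
  refine inner_link D _ _ _ _ (fun t u v => ?_) fun _ _ _ => rfl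
  rw [Uni.th_uu, Uni.theta_uu]

theorem link_one (χ : IrrCharacter G) :
    classInner (fun x : PB D => (χ : G → ℂ) (x : bSub D)) (fun _ => 1) = mu (uSub D) 1 χ := by
  rw [← classInner_conj_symm, inner_link D _ _ (fun x => ((1 : uSub D →* ℂˣ) x : ℂ)) (fun x => (χ : G → ℂ) x)
    (fun _ _ _ => rfl) (fun _ _ _ => rfl), mu_spec, map_natCast]

variable [Fintype (IrrCharacter G)]

theorem sum_sq_gg (H : Pre (bor D) e Q φ ψ a b c) :
    ∑ χ : IrrCharacter G, mu (uSub D) ((uni D).theta e) χ ^ 2 = Fintype.card K := by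
  have := (bor D).normal
  have h1 := inner_ind_ti (rank_one D) (α := (φ : bSub D → ℂ)) (isIrr_isClassFunction φ.2) (fun x hx => by
    rw [H.phi]
    exact CharactersDeep.NormalInd.indFun_of_not_mem (PB D) _ hx)
  rw [classInner_eq_sum (CharactersDeep.NormalInd.indFun_isClassFunction _ _)
    (CharactersDeep.NormalInd.indFun_isClassFunction _ _), classInner_irr_self φ.2, ← coe_charDegree φ.2, H.dphi,
    card_bSub, card_uSub, map_natCast] at h1
  have h2 : ∀ χ : IrrCharacter G, classInner (indFun (bSub D) (φ : bSub D → ℂ)) (χ : G → ℂ) =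
      mu (uSub D) ((uni D).theta e) χ := fun χ => by
    rw [CharactersDeep.NormalInd.classInner_indFun _ _ _ (isIrr_isClassFunction χ.2), link_phi D H]
  simp only [h2, map_natCast] at h1
  have hq : (Fintype.card K : ℂ) ≠ 0 := Nat.cast_ne_zero.2 Fintype.card_ne_zero
  have hQ : (Q : ℂ) ≠ 0 := by
    have h3 : 1 < Fintype.card K := Fintype.one_lt_card
    rw [H.hQ] at h3
    exact Nat.cast_ne_zero.2 (by omega)
  have h3 : ((∑ χ : IrrCharacter G, mu (uSub D) ((uni D).theta e) χ ^ 2 : ℕ) : ℂ) = Fintype.card K := by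
    push_cast
    simp only [sq]
    rw [h1]
    have h4 : Fintype.card K - 1 = 2 * Q := by rw [H.hQ, Nat.add_sub_cancel]
    rw [h4]
    push_cast
    field_simp
    rw [H.hQ]
    push_cast
    ring
  exact_mod_cast h3

/-- **Multiplicity one.** -/
theorem gg_mult (H : Pre (bor D) e Q φ ψ a b c) (hK : Fintype.card K = 3 ^ (2 * m + 1)) (he : e ≠ 1)
    (χ : IrrCharacter G) :
    mu (uSub D) ((uni D).theta e) χ = 0 ∨ (mu (uSub D) ((uni D).theta e) χ = 1 ∧ cj χ = χ) := by
  refine mult_le_one _ (sum_sq_gg D H) ?_ χ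
  rw [← fs_sum, ← ind_eq_sum, fs_gg D hK he]

end Cfsg.Agent.TID.Ree
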