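import Mathlib
import Cfsg.Agent.H672.Ext
import Cfsg.Agent.CharactersDeep.NormalInd
import Cfsg.Agent.S0138
import Cfsg.Agent.S0158

/-!
# S4622, row `SRee`: general lemmas (helper3)

* `cj`: the complex conjugate of an irreducible character; `nu`: the `3`-valuation of the degree;
* `exists_ram`: fully ramified characters over an invariant linear character;
* `fs`, `mult_le_one`: the Frobenius-Schur count;
* `six`: a vector of norm three which is orthogonal to its conjugate.
-/

set_option autoImplicit false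
set_option linter.unusedSectionVars false

namespace Cfsg.Agent.TID.Ree

open Cfsg Cfsg.Agent.Characters.Core Cfsg.Agent.H672
open scoped ComplexConjugate

universe u

variable {X : Type u} [Group X]

/-- the complex conjugate character -/
noncomputable def cj [Finite X] (χ : IrrCharacter X) : IrrCharacter X :=
  ⟨fun g => conj ((χ : X → ℂ) g), isIrr_conj χ.2⟩

theorem cj_apply [Finite X] (χ : IrrCharacter X) (g : X) : (cj χ : X → ℂ) g = conj ((χ : X → ℂ) g) := rfl

theorem cj_cj [Finite X] (χ : IrrCharacter X) : cj (cj χ) = χ := by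
  apply Subtype.ext
  funext g
  exact Complex.conj_conj _

theorem deg_cj [Finite X] (χ : IrrCharacter X) : charDegree (cj χ : X → ℂ) = charDegree (χ : X → ℂ) := by
  apply charDegree_of_eq
  rw [cj_apply, ← coe_charDegree χ.2, map_natCast]

/-- the `3`-valuation of the degree -/
noncomputable def nu (χ : IrrCharacter X) : ℕ := (charDegree (χ : X → ℂ)).factorization 3

theorem nu_cj [Finite X] (χ : IrrCharacter X) : nu (cj χ) = nu χ := by
  unfold nu
  rw [deg_cj]

theorem inner_conj [Fintype X] (α β : X → ℂ) :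
    classInner (fun g => conj (α g)) (fun g => conj (β g)) = conj (classInner α β) := by
  simp only [classInner_def, map_mul, map_inv₀, map_natCast, map_sum]

theorem inner_conj_left [Fintype X] (α β : X → ℂ) :
    classInner (fun g => conj (α g)) β = conj (classInner α (fun g => conj (β g))) := by
  rw [← inner_conj]
  simp only [Complex.conj_conj]

theorem indFun_conj [Fintype X] (H : Subgroup X) (θ : H → ℂ) :
    indFun H (fun h => conj (θ h)) = fun g => conj (indFun H θ g) := by
  funext g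
  rw [indFun_apply, indFun_apply, map_mul, map_inv₀, map_natCast, map_sum]
  congr 1
  refine Finset.sum_congr rfl fun x _ => ?_
  by_cases hx : x⁻¹ * g * x ∈ H
  · rw [extendByZero_of_mem H _ hx, extendByZero_of_mem H _ hx]
  · rw [extendByZero_of_notMem H _ hx, extendByZero_of_notMem H _ hx, map_zero]

theorem apply_mul [Finite X] {χ : X → ℂ} (hχ : IsIrrCharacter X χ) {z : X} {ω : ℂ} (hω : ‖ω‖ = 1)
    (hz : χ z = ω * χ 1) (x : X) : χ (x * z) = ω * χ x := by
  have h0 := isIrr_apply_one_ne_zero hχ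
  obtain ⟨n, ρ, -, rfl⟩ := hχ
  have h1 : ρ.character 1 = (Module.finrank ℂ (Fin n → ℂ) : ℂ) := Representation.char_one ρ
  obtain ⟨ω', h2⟩ := (Cfsg.Agent.S0138.result ρ z).1 (by rw [hz, h1, norm_mul, hω, one_mul, Complex.norm_natCast])
  have h3 : ∀ y, ρ.character (y * z) = ω' * ρ.character y := by
    intro y
    unfold Representation.character
    rw [map_mul, h2, Module.End.mul_eq_comp, LinearMap.comp_smul, LinearMap.comp_id, map_smul, smul_eq_mul]
  have h4 := h3 1
  rw [one_mul, hz] at h4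
  rw [h3, mul_right_cancel₀ h0 h4]

theorem norm_hom [Finite X] (μ : X →* ℂˣ) (x : X) : ‖(μ x : ℂ)‖ = 1 := by
  have h1 : (μ x : ℂ) ^ orderOf x = 1 := by
    rw [← Units.val_pow_eq_pow_val, ← map_pow, pow_orderOf_eq_one, map_one, Units.val_one]
  exact Complex.norm_eq_one_of_pow_eq_one h1 (orderOf_pos x).ne'

/-- **Fully ramified characters.** -/
theorem exists_ram [Finite X] (R : Subgroup X) [hR : R.Normal] (μ : R →* ℂˣ)
    (hinv : ∀ (g : X) (r r' : R), (r' : X) = g * r * g⁻¹ → μ r' = μ r)
    (hout : ∀ x, x ∉ R → ∃ (y : X) (z : R), μ z ≠ 1 ∧ y * x * y⁻¹ = x * z) :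
    ∃ (ν : IrrCharacter X) (d : ℕ), d ^ 2 * Nat.card R = Nat.card X ∧
      (∀ r : R, (ν : X → ℂ) r = d * (μ r : ℂ)) ∧ ∀ x, x ∉ R → (ν : X → ℂ) x = 0 := by
  classical
  have := Fintype.ofFinite X
  have := Fintype.ofFinite R
  have hμ := Characters.Linear.isIrrCharacter_hom μ
  obtain ⟨ν, hν, ho⟩ := exists_over_subtype R hμ
  rw [over_iff] at ho
  have h1 := comp_eq_smul_of_invariant_hom R.subtype R.subtype_injective (by rw [Subgroup.range_subtype]; exact hR)
    hν hμ (fun k h h' hh => congrArg Units.val (hinv k h h' hh)) ho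
  set c := classInner (ν ∘ R.subtype) (fun r => (μ r : ℂ)) with hc
  have h2 : ∀ r : R, ν r = c * (μ r : ℂ) := fun r => congrFun h1 r
  have h3 : ν 1 = c := by
    have := h2 1
    rwa [map_one, Units.val_one, mul_one] at this
  have h4 : ∀ x, x ∉ R → ν x = 0 := by
    intro x hx
    obtain ⟨y, z, hz, hy⟩ := hout x hx
    have h5 := isIrr_isClassFunction hν x y
    rw [hy, apply_mul hν (norm_hom μ z) (by rw [h2, h3, mul_comm])] at h5
    have h6 : ((μ z : ℂ) - 1) * ν x = 0 := by rw [sub_mul, h5, one_mul, sub_self]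
    rcases mul_eq_zero.1 h6 with h7 | h7
    · exact absurd (Units.ext (sub_eq_zero.1 h7)) hz
    · exact h7
  obtain ⟨d, -, hd⟩ := isIrr_apply_one hν
  rw [h3] at hd
  refine ⟨⟨ν, hν⟩, d, ?_, fun r => by rw [← hd]; exact h2 r, h4⟩
  have h5 := classInner_irr_self hν
  rw [classInner_def] at h5
  have h6 : ∑ g : X, ν g * conj (ν g) = ∑ g : X, extendByZero R (fun _ => (d : ℂ) ^ 2) g := by
    refine Finset.sum_congr rfl fun g _ => ?_
    by_cases hg : g ∈ R
    · rw [extendByZero_of_mem R _ hg, h2 ⟨g, hg⟩, hd, map_mul, map_natCast, mul_mul_mul_comm, Complex.mul_conj,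
        Complex.normSq_eq_norm_sq, norm_hom]
      simp [sq]
    · rw [extendByZero_of_notMem R _ hg, h4 g hg, zero_mul]
  rw [h6, CharactersDeep.NormalInd.sum_extendByZero, Finset.sum_const, Finset.card_univ, ← Nat.card_eq_fintype_card,
    nsmul_eq_mul, inv_mul_eq_one₀ card_ne_zero_complex] at h5
  have h7 : ((d ^ 2 * Nat.card R : ℕ) : ℂ) = (Nat.card X : ℂ) := by
    rw [h5]
    push_cast
    ring
  exact_mod_cast h7

/-! ### the Frobenius-Schur count -/

/-- the Frobenius-Schur functional -/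
noncomputable def fs [Fintype X] (χ : X → ℂ) : ℂ := (Nat.card X : ℂ)⁻¹ * ∑ s : X, χ (s * s)

theorem fs_cases [Fintype X] (χ : IrrCharacter X) :
    (fs (χ : X → ℂ) = 1 ∧ cj χ = χ) ∨ fs (χ : X → ℂ) = 0 ∨ fs (χ : X → ℂ) = -1 := by
  obtain ⟨χ, n, ρ, hρ, rfl⟩ := χ
  obtain ⟨h1, h2⟩ := Cfsg.Agent.S0158.result ρ
  rcases h1 with h1 | h1 | h1
  · exact Or.inr (Or.inl h1)
  · refine Or.inl ⟨h1, ?_⟩
    apply Subtype.ext
    funext g
    by_contra hne
    have h3 : (ρ.character g).im ≠ 0 := fun h => hne (Complex.conj_eq_iff_im.2 h)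
    have h4 := h2.2 ⟨g, h3⟩
    rw [h1] at h4
    exact one_ne_zero h4
  · exact Or.inr (Or.inr h1)

theorem fs_ind [Fintype X] (H : Subgroup X) (θ : H → ℂ) :
    fs (indFun H θ) = (Nat.card H : ℂ)⁻¹ * ∑ s : X, extendByZero H θ (s * s) := by
  unfold fs
  simp only [indFun_apply]
  rw [← Finset.mul_sum, Finset.sum_comm]
  have h1 : ∀ x : X, ∑ s : X, extendByZero H θ (x⁻¹ * (s * s) * x) = ∑ s : X, extendByZero H θ (s * s) := by
    intro x
    refine Fintype.sum_equiv (MulAut.conj x⁻¹).toEquiv _ _ fun s => ?_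
    congr 1
    simp [mul_assoc]
  rw [Finset.sum_congr rfl fun x _ => h1 x, Finset.sum_const, Finset.card_univ, ← Nat.card_eq_fintype_card,
    nsmul_eq_mul, ← mul_assoc, mul_comm (Nat.card X : ℂ)⁻¹, mul_assoc, inv_mul_cancel_left₀ card_ne_zero_complex]

theorem fs_sum [Fintype X] [Fintype (IrrCharacter X)] (n : IrrCharacter X → ℂ) :
    fs (∑ χ : IrrCharacter X, n χ • (χ : X → ℂ)) = ∑ χ : IrrCharacter X, n χ * fs (χ : X → ℂ) := by
  unfold fs
  simp only [Finset.sum_apply, Pi.smul_apply, smul_eq_mul]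
  rw [Finset.sum_comm, Finset.mul_sum]
  refine Finset.sum_congr rfl fun χ _ => ?_
  rw [← Finset.mul_sum]
  ring

/-- **The count**: multiplicity one, and the constituents are real. -/
theorem mult_le_one [Fintype X] [Fintype (IrrCharacter X)] (n : IrrCharacter X → ℕ) {k : ℕ}
    (h1 : ∑ χ, n χ ^ 2 = k) (h2 : ∑ χ : IrrCharacter X, (n χ : ℂ) * fs (χ : X → ℂ) = k) (χ : IrrCharacter X) :
    n χ = 0 ∨ (n χ = 1 ∧ cj χ = χ) := by
  classical
  let f : IrrCharacter X → ℤ := fun χ => if fs (χ : X → ℂ) = 1 then 1 else if fs (χ : X → ℂ) = 0 then 0 else -1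
  have hf : ∀ χ : IrrCharacter X, (f χ : ℂ) = fs (χ : X → ℂ) := by
    intro χ
    simp only [f]
    split_ifs with h3 h4
    · rw [h3]; simp
    · rw [h4]; simp
    · rcases fs_cases χ with h | h | h
      · exact absurd h.1 h3
      · exact absurd h h4
      · rw [h]; simp
  have hf1 : ∀ χ, f χ ≤ 1 := by
    intro χ
    simp only [f]
    split_ifs <;> omega
  have h3 : ∑ χ, (n χ : ℤ) * f χ = k := by
    have : ((∑ χ, (n χ : ℤ) * f χ : ℤ) : ℂ) = (k : ℤ) := by
      push_cast
      rw [← h2]
      exact Finset.sum_congr rfl fun χ _ => by rw [hf]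
    exact_mod_cast this
  have h4 : ∑ χ, ((n χ : ℤ) ^ 2 - (n χ : ℤ) * f χ) = 0 := by
    rw [Finset.sum_sub_distrib, h3, ← h1]
    push_cast
    ring
  have h5 : ∀ χ, 0 ≤ (n χ : ℤ) ^ 2 - (n χ : ℤ) * f χ := by
    intro χ
    have := hf1 χ
    rcases Nat.eq_zero_or_pos (n χ) with h | h
    · rw [h]; simp
    · have : (1 : ℤ) ≤ n χ := by exact_mod_cast h
      nlinarith
  have h6 := (Finset.sum_eq_zero_iff_of_nonneg fun χ _ => h5 χ).1 h4 χ (Finset.mem_univ _)
  rcases Nat.eq_zero_or_pos (n χ) with h | h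
  · exact Or.inl h
  · right
    have h7 : (1 : ℤ) ≤ n χ := by exact_mod_cast h
    have h8 := hf1 χ
    have h9 : (n χ : ℤ) = f χ := by
      have : (n χ : ℤ) * ((n χ : ℤ) - f χ) = 0 := by linarith
      rcases mul_eq_zero.1 this with h10 | h10 <;> omega
    have h10 : f χ = 1 := by omega
    refine ⟨by omega, ?_⟩
    have h11 := hf χ
    rw [h10] at h11
    rcases fs_cases χ with h12 | h12 | h12
    · exact h12.2
    · rw [h12] at h11; simp at h11
    · rw [h12] at h11
      norm_num at h11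

/-! ### vectors of small norm -/

theorem sq_le_three {a : ℤ} (h : a ^ 2 ≤ 3) : a = 0 ∨ a = 1 ∨ a = -1 := by
  have h1 : a ≤ 1 := by nlinarith
  have h2 : -1 ≤ a := by nlinarith
  omega

/-- the support of a vector with entries `0, 1, -1` -/
theorem card_supp {ι : Type*} [Fintype ι] [DecidableEq ι] (a : ι → ℤ) (h : ∀ i, a i = 0 ∨ a i = 1 ∨ a i = -1) :
    ((Finset.univ.filter fun i => a i ≠ 0).card : ℤ) = ∑ i, a i ^ 2 := by
  rw [Finset.card_filter]
  push_cast
  refine Finset.sum_congr rfl fun i _ => ?_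
  rcases h i with h | h | h <;> simp [h]

/-- **A vector of norm three orthogonal to its conjugate.** -/
theorem six {ι : Type*} [Fintype ι] [DecidableEq ι] (c : ι → ι) (hc : ∀ i, c (c i) = i) (a : ι → ℤ)
    (h3 : ∑ i, a i ^ 2 = 3) (h0 : ∑ i, a i * a (c i) = 0) :
    (∀ i, a i * a (c i) = 0) ∧ (∀ i, a i = 0 ∨ a i = 1 ∨ a i = -1) ∧
      (Finset.univ.filter fun i => a i ≠ 0 ∨ a (c i) ≠ 0).card = 6 := by
  have h1 : ∀ i, a i = 0 ∨ a i = 1 ∨ a i = -1 := fun i => sq_le_three (h3 ▸
    Finset.single_le_sum (f := fun i => a i ^ 2) (fun _ _ => sq_nonneg _) (Finset.mem_univ i))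
  have h2 : (Finset.univ.filter fun i => a i ≠ 0).card = 3 := by
    have := card_supp a h1
    rw [h3] at this
    exact_mod_cast this
  have hF : ∀ i, a i * a (c i) = 0 ∨ a i * a (c i) = 1 ∨ a i * a (c i) = -1 := by
    intro i
    rcases h1 i with h | h | h <;> rcases h1 (c i) with h' | h' | h' <;> simp [h, h']
  have h4 : ∀ i, a i * a (c i) = 0 := by
    by_contra hcon
    push Not at hcon
    obtain ⟨i₀, hi₀⟩ := hcon
    have hneg : ∃ j, a j * a (c j) = -1 := by
      by_contra h5
      push Not at h5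
      have h6 : ∀ j, 0 ≤ a j * a (c j) := fun j => by
        rcases hF j with h | h | h
        · omega
        · omega
        · exact absurd h (h5 j)
      exact hi₀ ((Finset.sum_eq_zero_iff_of_nonneg fun j _ => h6 j).1 h0 i₀ (Finset.mem_univ _))
    have hpos : ∃ j, a j * a (c j) = 1 := by
      by_contra h5
      push Not at h5
      have h6 : ∀ j, a j * a (c j) ≤ 0 := fun j => by
        rcases hF j with h | h | h
        · omega
        · exact absurd h (h5 j)
        · omega
      exact hi₀ ((Finset.sum_eq_zero_iff_of_nonpos fun j _ => h6 j).1 h0 i₀ (Finset.mem_univ _))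
    obtain ⟨j, hj⟩ := hneg
    obtain ⟨k, hk⟩ := hpos
    have hj' : a (c j) * a (c (c j)) = -1 := by rw [hc, mul_comm, hj]
    have n1 : j ≠ c j := by
      intro h
      rw [← h] at hj
      nlinarith [sq_nonneg (a j)]
    have n2 : k ≠ j := by rintro rfl; omega
    have n3 : k ≠ c j := by rintro rfl; omega
    have hsub : ({k, j, c j} : Finset ι) ⊆ Finset.univ.filter fun i => a i ≠ 0 := by
      intro x hx
      rw [Finset.mem_filter]
      refine ⟨Finset.mem_univ _, fun h => ?_⟩
      simp only [Finset.mem_insert, Finset.mem_singleton] at hx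
      rcases hx with rfl | rfl | rfl
      · rw [h] at hk; omega
      · rw [h] at hj; omega
      · rw [h] at hj; omega
    have hcard : ({k, j, c j} : Finset ι).card = 3 := Finset.card_eq_three.2 ⟨k, j, c j, n2, n3, n1, rfl⟩
    have heq := Finset.eq_of_subset_of_card_le hsub (by rw [h2, hcard])
    have h7 : ∑ i, a i * a (c i) = ∑ i ∈ ({k, j, c j} : Finset ι), a i * a (c i) := by
      symm
      refine Finset.sum_subset (Finset.subset_univ _) fun x _ hx => ?_
      rw [heq, Finset.mem_filter] at hx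
      have : a x = 0 := by
        by_contra h
        exact hx ⟨Finset.mem_univ _, h⟩
      rw [this, zero_mul]
    rw [Finset.sum_insert (by simp [n2, n3]), Finset.sum_pair n1, hk, hj, hj', h0] at h7
    omega
  refine ⟨h4, h1, ?_⟩
  rw [Finset.filter_or, Finset.card_union_of_disjoint, h2]
  · have h5 : (Finset.univ.filter fun i => a (c i) ≠ 0).card = (Finset.univ.filter fun i => a i ≠ 0).card := by
      refine Finset.card_bij (fun i _ => c i) ?_ ?_ ?_
      · intro i hi
        simpa using hi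
      · intro i _ j _ h
        rw [← hc i, h, hc]
      · intro j hj
        refine ⟨c j, ?_, hc j⟩
        simpa [hc] using hj
    rw [h5, h2]
  · rw [Finset.disjoint_filter]
    intro i _ h h'
    rcases mul_eq_zero.1 (h4 i) with h5 | h5
    · exact h h5
    · exact h' h5

end Cfsg.Agent.TID.Ree
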