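import Cfsg.Agent.TID.Ree.Fs
import Cfsg.Agent.H121.TI.Ree
import Cfsg.Agent.S4820

/-!
# S4622, row `SRee`: the `3`-parts of the degrees of the small Ree groups (helper3)

* `deg_eq`: the degree formula; `card_one`: `q` characters of degree prime to `3`;
* `exists_six`: the six non-real characters; `exists_four`: the character of degree `q (q² - q + 1)`;
* `shape_grp`, `shape_bor`.
-/

set_option autoImplicit false
set_option linter.unusedSectionVars false

namespace Cfsg.Agent.TID.Ree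

open Cfsg Cfsg.Agent.Characters.Core Cfsg.Agent.H672
open Cfsg.Agent.LieRecognition Cfsg.Agent.LieRecognition.ReeAbs Cfsg.Agent.LieRecognition.ReeSplit
  Cfsg.Agent.LieRecognition.ReeSylowThree
open Cfsg.Agent.H732.RankOneGG (mu mu_spec ind_eq_sum Inv)
open Cfsg.Agent.H732.DegRee (hh)
open Cfsg.Agent.H88.RkRee (rank_one)
open scoped ComplexConjugate

universe u

variable {K : Type*} [Field K] [Fintype K] {m : ℕ} {G : Type u} [Group G]
  {U : K → K → K → G} {h : Kˣ → G} {n : G}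

section ml

variable [Fintype G] (B : Subgroup G) [Fintype B]

theorem exists_ml (η : IrrCharacter B) (χ : IrrCharacter G) :
    ∃ k : ℕ, classInner (η : B → ℂ) (fun x : B => (χ : G → ℂ) x) = k :=
  classInner_isNat (isIrr_isCharacter η.2) (isCharacter_comp B.subtype (isIrr_isCharacter χ.2))

/-- the multiplicity in the restriction -/
noncomputable def ml (η : IrrCharacter B) (χ : IrrCharacter G) : ℕ := (exists_ml B η χ).choose

theorem ml_spec (η : IrrCharacter B) (χ : IrrCharacter G) :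
    classInner (η : B → ℂ) (fun x : B => (χ : G → ℂ) x) = ml B η χ := (exists_ml B η χ).choose_spec

theorem ml_spec' (η : IrrCharacter B) (χ : IrrCharacter G) :
    classInner (fun x : B => (χ : G → ℂ) x) (η : B → ℂ) = ml B η χ := by
  rw [← classInner_conj_symm, ml_spec, map_natCast]

theorem ml_cj (η : IrrCharacter B) (χ : IrrCharacter G) : ml B (cj η) χ = ml B η (cj χ) := by
  have h1 := inner_conj_left (η : B → ℂ) (fun x : B => (χ : G → ℂ) x)
  have h2 := ml_spec B η (cj χ)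
  have h3 := ml_spec B (cj η) χ
  have h4 : (ml B (cj η) χ : ℂ) = ml B η (cj χ) := by
    rw [← h3, ← map_natCast (starRingEnd ℂ), ← h2]
    exact h1
  exact_mod_cast h4

theorem inner_three (a b c : IrrCharacter B) (χ : IrrCharacter G) :
    classInner (indFun B ((a : B → ℂ) + (b : B → ℂ) - (c : B → ℂ))) (χ : G → ℂ) =
      ((ml B a χ + ml B b χ - ml B c χ : ℤ) : ℂ) := by
  rw [CharactersDeep.NormalInd.classInner_indFun _ _ _ (isIrr_isClassFunction χ.2), classInner_sub_left,
    classInner_add_left, ml_spec, ml_spec, ml_spec]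
  push_cast
  rfl

end ml

theorem inv_real (D : Data m U h n) (f : bSub D →* ℂˣ) (hf : Inv (bSub D) (uSub D) n f) (x : bSub D) :
    conj (f x : ℂ) = f x := by
  obtain ⟨t, u, v, a, rfl⟩ := (bor D).surj x
  rw [map_mul, hf.1 (UB D t u v) ⟨t, u, v, rfl⟩, one_mul]
  have h1 : (f (hh D a) : ℂ) * f (hh D a) = 1 := by
    rw [← Units.val_mul, ← sq, H732.DegRee.inv_sq D hf, Units.val_one]
  rcases mul_self_eq_one_iff.1 h1 with h2 | h2 <;> rw [h2] <;> simp

theorem card_nd [Fintype G] [Fintype (IrrCharacter G)] (D : Data m U h n) (hK : Fintype.card K = 3 ^ (2 * m + 1)) :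
    (Finset.univ.filter fun χ : IrrCharacter G => nu χ ≠ 3 * (2 * m + 1)).card = Nat.card (IrrCharacter (bSub D)) := by
  classical
  have : Fact (Nat.Prime 3) := ⟨Nat.prime_three⟩
  obtain ⟨S, hS⟩ := H121.TI.Ree.exists_sylow D hK
  have h1 : (Nat.card G).factorization 3 = 3 * (2 * m + 1) := by
    have h2 := S.card_eq_multiplicity
    rw [hS, card_uSub, hK, ← pow_mul] at h2
    rw [← Nat.pow_right_injective (by norm_num : 2 ≤ 3) h2, mul_comm]
  have h2 := Cfsg.Agent.S4820.result 3 (Nat.dvd_of_factorization_pos (by omega)) S (fun g hg =>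
    sylow_three_inf hK D S (g • S) fun h3 => hg (Sylow.smul_eq_iff_mem_normalizer.1 h3.symm))
  rw [hS, H121.TI.Ree.normalizer_uSub D, ← card_irr, ← card_irr, h1, Nat.card_eq_fintype_card] at h2
  have h3 := Finset.card_filter_add_card_filter_not (s := Finset.univ)
    (fun χ : IrrCharacter G => nu χ = 3 * (2 * m + 1))
  have h4 : Nat.card {χ : IrrCharacter G // (charDegree (χ : G → ℂ)).factorization 3 = 3 * (2 * m + 1)} =
      (Finset.univ.filter fun χ : IrrCharacter G => nu χ = 3 * (2 * m + 1)).card :=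
    Nat.subtype_card _ fun χ => by rw [Finset.mem_filter, and_iff_right (Finset.mem_univ _)]; rfl
  rw [Finset.card_univ, h2, h4, add_comm] at h3
  exact Nat.add_right_cancel h3

variable [Fintype G] (D : Data m U h n) [Fintype (uSub D)] [Fintype (bSub D)] [Fintype (PB D)] [DecidableEq K]
  {e : AddChar K ℂ} {Q : ℕ} {φ ψ a b c : IrrCharacter (bSub D)} (H : Pre (bor D) e Q φ ψ a b c)
  (hK : Fintype.card K = 3 ^ (2 * m + 1)) (hm : 1 ≤ m) (he : e ≠ 1)

include H hK hm

/-- **The degree formula.** -/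
theorem deg_eq (χ : IrrCharacter G) : charDegree (χ : G → ℂ) =
    mu (uSub D) 1 χ + 2 * Q * mu (uSub D) ((uni D).theta e) χ + Q * 3 ^ m * (6 * 3 ^ m * ml _ ψ χ +
      (ml _ a χ + ml _ b χ + 2 * ml _ c χ + (ml _ a (cj χ) + ml _ b (cj χ) + 2 * ml _ c (cj χ)))) := by
  have h1 := H.degree hK hm (res_class D χ)
  rw [link_one, ← classInner_conj_symm (φ : bSub D → ℂ), link_phi D H, map_natCast, OneMemClass.coe_one,
    ← coe_charDegree χ.2, hK] at h1
  simp only [ml_spec', ml_cj] at h1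
  have h2 : ((charDegree (χ : G → ℂ) : ℕ) : ℂ) = ((mu (uSub D) 1 χ + 2 * Q * mu (uSub D) ((uni D).theta e) χ +
      Q * 3 ^ m * (6 * 3 ^ m * ml _ ψ χ + (ml _ a χ + ml _ b χ + 2 * ml _ c χ +
        (ml _ a (cj χ) + ml _ b (cj χ) + 2 * ml _ c (cj χ)))) : ℕ) : ℂ) := by
    rw [h1]
    push_cast
    ring
  exact_mod_cast h2

theorem deg_mod (χ : IrrCharacter G) : ∃ k, charDegree (χ : G → ℂ) =
    mu (uSub D) 1 χ + 2 * Q * mu (uSub D) ((uni D).theta e) χ + 3 * k := by
  obtain ⟨k, rfl⟩ : ∃ k, m = k + 1 := ⟨m - 1, by omega⟩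
  rw [deg_eq D H hK hm, pow_succ' 3 k, mul_left_comm Q 3, mul_assoc 3]
  exact ⟨_, rfl⟩

omit hm in
theorem q_mod : ∃ k, Q = 3 * k + 1 := by
  have h1 : 3 ∣ Fintype.card K := by
    rw [hK]
    exact dvd_pow_self 3 (by omega)
  rw [H.hQ] at h1
  exact ⟨Q / 3, by omega⟩

variable [Fintype (IrrCharacter G)]

include he

omit hm in
theorem tri_ree {χ : IrrCharacter G} (h0 : mu (uSub D) 1 χ ≠ 0) :
    cj χ = χ ∧ ((mu (uSub D) 1 χ = 2 ∧ mu (uSub D) ((uni D).theta e) χ = 1) ∨ mu (uSub D) 1 χ = 1) :=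
  tri (rank_one D) (H732.DegRee.hT D) (H732.DegRee.hab D) (inv_real D) _ (theta_ne D he) (fun χ h1 => by
    rcases gg_mult D H hK he χ with h2 | h2
    · omega
    · exact h2.2) h0

omit hm in
theorem diff_cases {χ : IrrCharacter G} (h0 : mu (uSub D) 1 χ ≠ mu (uSub D) ((uni D).theta e) χ) :
    (mu (uSub D) 1 χ = 0 ∧ mu (uSub D) ((uni D).theta e) χ = 1) ∨
      (mu (uSub D) 1 χ = 1 ∧ mu (uSub D) ((uni D).theta e) χ = 0) ∨
      (mu (uSub D) 1 χ = 2 ∧ mu (uSub D) ((uni D).theta e) χ = 1) := by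
  have h1 := gg_mult D H hK he χ
  by_cases h2 : mu (uSub D) 1 χ = 0
  · omega
  · have h3 := (tri_ree D H hK he h2).2
    omega

theorem nu_one {χ : IrrCharacter G} (h0 : mu (uSub D) 1 χ ≠ mu (uSub D) ((uni D).theta e) χ) : nu χ = 0 := by
  obtain ⟨k, hk⟩ := deg_mod D H hK hm χ
  obtain ⟨l, hl⟩ := q_mod D H hK
  refine nu_of_deg (k := charDegree (χ : G → ℂ)) (by rw [pow_zero, mul_one]) ?_
  rcases diff_cases D H hK he h0 with h1 | h1 | h1 <;> rw [h1.1, h1.2] at hk <;> omega

theorem card_one [DecidableEq (IrrCharacter G)] : (Finset.univ.filter fun χ : IrrCharacter G =>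
    mu (uSub D) 1 χ ≠ mu (uSub D) ((uni D).theta e) χ).card = Fintype.card K := by
  have h1 := H732.RankOneGG.sum_sq (rank_one D) _ (theta_ne D he) (H732.ReeLin.inertia D hK hm (theta_ne D he))
    (t := Fintype.card K - 1) (by rw [card_bSub, card_uSub])
  have h2 := card_supp (fun χ : IrrCharacter G => (mu (uSub D) 1 χ : ℤ) - mu (uSub D) ((uni D).theta e) χ) (fun χ => by
    by_cases h3 : mu (uSub D) 1 χ = mu (uSub D) ((uni D).theta e) χ
    · omega
    · have := diff_cases D H hK he h3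
      omega)
  rw [h1] at h2
  have h3 : 0 < Fintype.card K := Fintype.card_pos
  have h4 : (Finset.univ.filter fun χ : IrrCharacter G => mu (uSub D) 1 χ ≠ mu (uSub D) ((uni D).theta e) χ) =
      Finset.univ.filter fun χ : IrrCharacter G => (mu (uSub D) 1 χ : ℤ) - mu (uSub D) ((uni D).theta e) χ ≠ 0 :=
    Finset.filter_congr fun χ _ => by omega
  rw [h4]
  omega

/-- **The six non-real characters.** -/
theorem exists_six : ∃ s : Finset (IrrCharacter G), s.card = 6 ∧ ∀ χ ∈ s, nu χ = m ∧ cj χ ≠ χ := by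
  classical
  obtain ⟨⟨d1, d2, d3, d4, d5⟩, ⟨d6, d7, d8, d9⟩, ⟨d10, d11, d12⟩, -, -⟩ := H.dist hK
  have hne : ∀ {x y : IrrCharacter (bSub D)}, x ≠ y → classInner (x : bSub D → ℂ) (y : bSub D → ℂ) = 0 :=
    fun {x y} hxy => classInner_irr_ne x.2 y.2 fun h1 => hxy (Subtype.ext h1)
  have hcl : ∀ x y z : IrrCharacter (bSub D),
      IsClassFunction (bSub D) ((x : bSub D → ℂ) + (y : bSub D → ℂ) - (z : bSub D → ℂ)) := by
    intro x y z g k
    rw [Pi.sub_apply, Pi.sub_apply, Pi.add_apply, Pi.add_apply, isIrr_isClassFunction x.2, isIrr_isClassFunction y.2,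
      isIrr_isClassFunction z.2]
  have key : ∀ x y z : IrrCharacter (bSub D), ((∑ χ : IrrCharacter G, (ml _ a χ + ml _ b χ - ml _ c χ : ℤ) *
      (ml _ x χ + ml _ y χ - ml _ z χ : ℤ) : ℤ) : ℂ) = classInner ((a : bSub D → ℂ) + (b : bSub D → ℂ) - (c : bSub D → ℂ))
        ((x : bSub D → ℂ) + (y : bSub D → ℂ) - (z : bSub D → ℂ)) := by
    intro x y z
    have h1 := inner_ind_ti (rank_one D) (hcl x y z) (α := (a : bSub D → ℂ) + (b : bSub D → ℂ) - (c : bSub D → ℂ))
      (fun g hg => H.off g hg)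
    have h2 : ((a : bSub D → ℂ) + (b : bSub D → ℂ) - (c : bSub D → ℂ)) 1 = 0 := by
      rw [Pi.sub_apply, Pi.add_apply, ← coe_charDegree a.2, ← coe_charDegree b.2, ← coe_charDegree c.2, H.da, H.db, H.dc]
      push_cast
      ring
    rw [h2, zero_mul, mul_zero, mul_zero, add_zero, classInner_eq_sum
      (CharactersDeep.NormalInd.indFun_isClassFunction _ _) (CharactersDeep.NormalInd.indFun_isClassFunction _ _)] at h1
    rw [← h1, Int.cast_sum]
    refine Finset.sum_congr rfl fun χ _ => ?_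
    rw [inner_three, inner_three, map_intCast, Int.cast_mul]
  obtain ⟨h1, h2, h3⟩ := six cj cj_cj (fun χ : IrrCharacter G => (ml _ a χ + ml _ b χ - ml _ c χ : ℤ)) (by
    have h1 := key a b c
    simp only [classInner_sub_left, classInner_add_left, classInner_sub_right, classInner_add_right,
      classInner_irr_self a.2, classInner_irr_self b.2, classInner_irr_self c.2, hne d1, hne d2, hne d6, hne d1.symm,
      hne d2.symm, hne d6.symm] at h1
    simp only [sq]
    norm_num at h1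
    exact_mod_cast h1) (by
    have h1 := key (cj a) (cj b) (cj c)
    simp only [classInner_sub_left, classInner_add_left, classInner_sub_right, classInner_add_right,
      hne d3, hne d4, hne d5, hne d7, hne d8, hne d9, hne d10, hne d11, hne d12, ml_cj] at h1
    norm_num at h1
    exact_mod_cast h1)
  refine ⟨_, h3, fun χ hχ => ?_⟩
  have h4 := (Finset.mem_filter.1 hχ).2
  have h5 : cj χ ≠ χ := by
    intro h6
    have h7 := h1 χ
    rw [h6] at h7 h4
    rw [mul_self_eq_zero] at h7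
    exact h4.elim (fun h8 => h8 h7) fun h8 => h8 h7
  refine ⟨?_, h5⟩
  have h6 : mu (uSub D) 1 χ = 0 := by
    by_contra h7
    exact h5 (tri_ree D H hK he h7).1
  have h7 : mu (uSub D) ((uni D).theta e) χ = 0 := (gg_mult D H hK he χ).resolve_right fun h8 => h5 h8.2
  have h8 := deg_eq D H hK hm χ
  rw [h6, h7, mul_zero, zero_add, zero_add, mul_right_comm] at h8
  refine nu_of_deg h8 fun h9 => ?_
  rcases (Nat.Prime.dvd_mul Nat.prime_three).1 h9 with h10 | h10
  · exact H.not_dvd hK h10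
  · have h11 := mul_eq_zero.1 (h1 χ)
    have h12 := h2 χ
    have h13 := h2 (cj χ)
    rw [mul_assoc] at h10
    omega

/-- **The character of degree `q (q² - q + 1)`.** -/
theorem exists_four (hG : commutator G = ⊤) : ∃ χ : IrrCharacter G, nu χ = 2 * m + 1 := by
  classical
  obtain ⟨f, hf, hf1, -⟩ := H732.DegRee.exists_quad D hK
  obtain ⟨θ₁, θ₂, -, c1, -, m1, m2, g1, g2, hs⟩ := H732.RankOneGG.exists_split (rank_one D) (H732.DegRee.hT D) f hf
    _ (theta_ne D he)
  have r1 := (tri_ree D H hK he (χ := θ₁) (by omega)).1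
  have r2 := (tri_ree D H hK he (χ := θ₂) (by omega)).1
  have e1 := deg_eq D H hK hm θ₁
  have e2 := deg_eq D H hK hm θ₂
  obtain ⟨k1, n1⟩ := deg_mod D H hK hm θ₁
  obtain ⟨k2, n2⟩ := deg_mod D H hK hm θ₂
  obtain ⟨l, hl⟩ := q_mod D H hK
  rw [m1, g1] at e1 n1
  rw [m2, g2] at e2 n2
  rw [r1] at e1
  rw [r2] at e2
  have hc : 3 ^ (2 * m + 1) = 2 * Q + 1 := by rw [← hK, H.hQ]
  have hd : ∀ χ : IrrCharacter G, charDegree (χ : G → ℂ) ∣
      (3 ^ (2 * m + 1)) ^ 3 * (2 * Q) * ((3 ^ (2 * m + 1)) ^ 3 + 1) := by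
    intro χ
    have h1 := Blocks.Knorr.charDegree_dvd χ.2
    rwa [card_eq D, hK, show 3 ^ (2 * m + 1) - 1 = 2 * Q by omega] at h1
  have n3 : ¬ 3 ∣ charDegree (θ₁ : G → ℂ) := by omega
  have h1 := arith (x₁ := 3 ^ m * (3 * 3 ^ m * ml _ ψ θ₁ + (ml _ a θ₁ + ml _ b θ₁ + 2 * ml _ c θ₁)))
    (x₂ := 1 + 3 ^ m * (3 * 3 ^ m * ml _ ψ θ₂ + (ml _ a θ₂ + ml _ b θ₂ + 2 * ml _ c θ₂))) (by omega) hc
    (by rw [hs, card_uSub, hK]) (hd θ₁) (hd θ₂) (by rw [e1]; ring) (by rw [e2]; ring) n3 (by omega) (by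
      intro h1
      obtain ⟨g, hg⟩ := Characters.Linear.exists_hom_of_isIrrCharacter θ₁.2 (by
        rw [← coe_charDegree θ₁.2, h1, Nat.cast_one])
      have h3 : ∀ x, g x = 1 := fun x => Abelianization.commutator_subset_ker g (by rw [hG]; trivial)
      have h5 := mu_spec (bSub D) f θ₁
      have h6 : (fun u : bSub D => (θ₁ : G → ℂ) u) = fun u => ((1 : bSub D →* ℂˣ) u : ℂ) := by
        funext u
        rw [hg]
        exact congrArg Units.val (h3 u)
      rw [c1, h6, H732.RankOneGG.inner_hom, if_neg hf1] at h5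
      norm_num at h5)
  exact ⟨θ₂, nu_of_deg h1 n3⟩

theorem shape_aux (hG : commutator G = ⊤) : Shape m G := by
  classical
  have := finite_irr (G := bSub D)
  have := Fintype.ofFinite (IrrCharacter (bSub D))
  have : Finite (Kˣ →* ℂˣ) := Finite.of_injective _ (bor D).lam_inj
  have := Fintype.ofFinite (Kˣ →* ℂˣ)
  obtain ⟨s, hs, hs'⟩ := exists_six D H hK hm he
  obtain ⟨ξ, hξ⟩ := exists_four D H hK hm he hG
  have h1 := card_one D H hK hm he
  have h2 := card_nd D hK
  rw [Nat.card_eq_fintype_card, H.card_irr hK hm] at h2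
  set s₁ := Finset.univ.filter fun χ : IrrCharacter G => mu (uSub D) 1 χ ≠ mu (uSub D) ((uni D).theta e) χ with hs₁
  have h3 : ∀ χ ∈ s₁, nu χ = 0 := fun χ hχ => nu_one D H hK hm he (Finset.mem_filter.1 hχ).2
  have h4 : (insert ξ (s₁ ∪ s)).card = Fintype.card K + 7 := by
    rw [Finset.card_insert_of_notMem, Finset.card_union_of_disjoint, h1, hs]
    · rw [Finset.disjoint_left]
      intro χ h5 h6
      have := h3 χ h5
      have := (hs' χ h6).1
      omega
    · rw [Finset.mem_union]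
      rintro (h5 | h5)
      · have := h3 ξ h5
        omega
      · have := (hs' ξ h5).1
        omega
  have h5 : insert ξ (s₁ ∪ s) = Finset.univ.filter fun χ : IrrCharacter G => nu χ ≠ 3 * (2 * m + 1) := by
    refine Finset.eq_of_subset_of_card_le (fun χ hχ => ?_) (by rw [h2, h4])
    rw [Finset.mem_filter]
    refine ⟨Finset.mem_univ _, ?_⟩
    rw [Finset.mem_insert, Finset.mem_union] at hχ
    rcases hχ with rfl | h5 | h5
    · omega
    · have := h3 χ h5
      omega
    · have := (hs' χ h5).1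
      omega
  have h6 : ∀ χ : IrrCharacter G, nu χ = 3 * (2 * m + 1) ∨ χ = ξ ∨ nu χ = 0 ∨ χ ∈ s := by
    intro χ
    by_cases h7 : nu χ = 3 * (2 * m + 1)
    · exact Or.inl h7
    · have h8 : χ ∈ insert ξ (s₁ ∪ s) := by
        rw [h5, Finset.mem_filter]
        exact ⟨Finset.mem_univ _, h7⟩
      rw [Finset.mem_insert, Finset.mem_union] at h8
      rcases h8 with h8 | h8 | h8
      · exact Or.inr (Or.inl h8)
      · exact Or.inr (Or.inr (Or.inl (h3 χ h8)))
      · exact Or.inr (Or.inr (Or.inr h8))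
  have h7 : ∀ χ : IrrCharacter G, nu χ = m ↔ χ ∈ s := by
    intro χ
    refine ⟨fun h8 => ?_, fun h8 => (hs' χ h8).1⟩
    rcases h6 χ with h9 | rfl | h9 | h9
    · omega
    · omega
    · omega
    · exact h9
  refine ⟨fun χ => ?_, ?_, fun χ hχ => (hs' χ ((h7 χ).1 hχ)).2, ?_⟩
  · rcases h6 χ with h9 | rfl | h9 | h9
    · exact Or.inr (Or.inr (Or.inr h9))
    · exact Or.inr (Or.inr (Or.inl hξ))
    · exact Or.inl h9
    · exact Or.inr (Or.inl (hs' χ h9).1)
  · rw [Nat.card_congr (Equiv.subtypeEquivRight h7), Nat.card_eq_fintype_card, Fintype.card_coe, hs]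
  · rw [Nat.card_eq_one_iff_exists]
    refine ⟨⟨ξ, hξ⟩, ?_⟩
    rintro ⟨χ, hχ⟩
    apply Subtype.ext
    rcases h6 χ with h9 | h9 | h9 | h9
    · omega
    · exact h9
    · omega
    · have := (hs' χ h9).1
      omega

end Cfsg.Agent.TID.Ree

namespace Cfsg.Agent.TID.Ree

open Cfsg Cfsg.Agent.Characters.Core
open Cfsg.Agent.LieRecognition.ReeAbs Cfsg.Agent.LieRecognition.ReeSplit Cfsg.Agent.LieRecognition.ReeSylowThree

universe u

variable {K : Type*} [Field K] [Fintype K] {m : ℕ} {G : Type u} [Group G] [Finite G]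
  {U : K → K → K → G} {h : Kˣ → G} {n : G}

/-- **The Ree group and its Borel subgroup.** -/
theorem shape_grp (D : Data m U h n) (hK : Fintype.card K = 3 ^ (2 * m + 1)) (hm : 1 ≤ m) (hG : commutator G = ⊤) :
    Shape m G ∧ Shape m (bSub D) := by
  classical
  have := Fintype.ofFinite G
  have := Fintype.ofFinite (uSub D)
  have := Fintype.ofFinite (bSub D)
  have := Fintype.ofFinite (PB D)
  have := finite_irr (G := G)
  have := Fintype.ofFinite (IrrCharacter G)
  obtain ⟨e, he, he3⟩ := exists_e hK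
  obtain ⟨Q, φ, ψ, a, b, c, H⟩ := exists_pre (bor D) hK he he3
  exact ⟨shape_aux D H hK hm he hG, H.shape hK hm⟩

end Cfsg.Agent.TID.Ree
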