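import Cfsg.Agent.TID.Ree.Bor

/-!
# S4622, row `SRee`: the irreducible characters of the Borel subgroup (helper3)

* `Shape`: the distribution of the `3`-parts of the degrees;
* `Pre`, `exists_pre`: the eight non-linear characters; `Pre.sum_univ`: the list is complete;
* `Pre.shape`, `Pre.card_irr`, `Pre.degree`.
-/

set_option autoImplicit false
set_option linter.unusedSectionVars false

namespace Cfsg.Agent.TID.Ree

open Cfsg Cfsg.Agent.Characters.Core Cfsg.Agent.H672
open Cfsg.Agent.LieRecognition Cfsg.Agent.LieRecognition.ReeAbs Cfsg.Agent.LieRecognition.ReeSplit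
open scoped ComplexConjugate

universe u

variable {K : Type*} [Field K] [Fintype K] {m : ℕ} {X : Type u} [Group X]

/-- the distribution of the `3`-parts of the degrees -/
structure Shape (m : ℕ) (S : Type u) [Group S] [Finite S] : Prop where
  cases : ∀ χ : IrrCharacter S, nu χ = 0 ∨ nu χ = m ∨ nu χ = 2 * m + 1 ∨ nu χ = 3 * (2 * m + 1)
  six : Nat.card {χ : IrrCharacter S // nu χ = m} = 6
  nonreal : ∀ χ : IrrCharacter S, nu χ = m → cj χ ≠ χ
  one : Nat.card {χ : IrrCharacter S // nu χ = 2 * m + 1} = 1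

theorem nu_of_deg {χ : IrrCharacter X} {k j : ℕ} (h : charDegree (χ : X → ℂ) = k * 3 ^ j) (hk : ¬ 3 ∣ k) :
    nu χ = j := by
  have hk0 : k ≠ 0 := by
    rintro rfl
    exact hk (dvd_zero 3)
  unfold nu
  rw [h, Nat.factorization_mul hk0 (by positivity), Finsupp.add_apply, Nat.factorization_eq_zero_of_not_dvd hk,
    Nat.Prime.factorization_pow Nat.prime_three, Finsupp.single_eq_same, zero_add]

variable {U : K → K → K → X} {h : Kˣ → X} {P : Subgroup X}

/-- the linear characters -/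
noncomputable def Bor.lam (D : Bor m U h P) (ω : Kˣ →* ℂˣ) : IrrCharacter X :=
  ⟨fun x => ((ω.comp D.pi) x : ℂ), Characters.Linear.isIrrCharacter_hom _⟩

theorem Bor.lam_apply (D : Bor m U h P) (ω : Kˣ →* ℂˣ) (x : X) : (D.lam ω : X → ℂ) x = ω (D.pi x) := rfl

theorem Bor.lam_inj (D : Bor m U h P) : Function.Injective D.lam := by
  intro ω ω' hω
  ext a
  have h1 := congrFun (congrArg Subtype.val hω) (h a)
  change (D.lam ω : X → ℂ) _ = (D.lam ω' : X → ℂ) _ at h1
  rwa [Bor.lam_apply, Bor.lam_apply, D.pi_h] at h1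

theorem Bor.deg_lam (D : Bor m U h P) (ω : Kˣ →* ℂˣ) : charDegree (D.lam ω : X → ℂ) = 1 := by
  have := D.finite
  apply charDegree_of_eq
  rw [Bor.lam_apply, map_one, map_one, Units.val_one, Nat.cast_one]

theorem card_hom [Fintype (Kˣ →* ℂˣ)] : Fintype.card (Kˣ →* ℂˣ) = Fintype.card K - 1 := by
  rw [← Nat.card_eq_fintype_card, CommGroup.card_monoidHom_of_hasEnoughRootsOfUnity, Nat.card_units,
    Nat.card_eq_fintype_card]

theorem sum_hom [Fintype (Kˣ →* ℂˣ)] {a : Kˣ} (ha : a ≠ 1) : ∑ ω : Kˣ →* ℂˣ, (ω a : ℂ) = 0 := by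
  obtain ⟨ω₀, h0⟩ := CommGroup.exists_apply_ne_one_of_hasEnoughRootsOfUnity Kˣ ℂ ha
  have h1 : ∑ ω : Kˣ →* ℂˣ, (ω a : ℂ) = (ω₀ a : ℂ) * ∑ ω : Kˣ →* ℂˣ, (ω a : ℂ) := by
    rw [Finset.mul_sum]
    exact (Fintype.sum_equiv (Equiv.mulLeft ω₀) _ _ fun ω => rfl).symm
  have h2 : ((ω₀ a : ℂ) - 1) * ∑ ω : Kˣ →* ℂˣ, (ω a : ℂ) = 0 := by rw [sub_mul, ← h1, one_mul, sub_self]
  rcases mul_eq_zero.1 h2 with h3 | h3
  · exact absurd (Units.ext (sub_eq_zero.1 h3)) h0
  · exact h3

variable [Fintype X] [Fintype P] [DecidableEq K]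

theorem Bor.sum_lam (D : Bor m U h P) [Fintype (Kˣ →* ℂˣ)] :
    ∑ ω : Kˣ →* ℂˣ, (D.lam ω : X → ℂ) = indFun P (fun _ => 1) := by
  have := D.normal
  funext x
  rw [Finset.sum_apply]
  simp only [Bor.lam_apply]
  by_cases hx : x ∈ P
  · rw [(D.pi_eq_one x).2 hx, CharactersDeep.NormalInd.indFun_of_invariant P (fun _ => (1 : ℂ)) (fun _ _ => rfl) ⟨x, hx⟩,
      D.index_P]
    simp only [map_one, Units.val_one, Finset.sum_const, Finset.card_univ, card_hom, nsmul_eq_mul]
  · rw [sum_hom fun h1 => hx ((D.pi_eq_one x).1 h1), CharactersDeep.NormalInd.indFun_of_not_mem P _ hx]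

/-- The non-linear characters. -/
structure Pre (D : Bor m U h P) (e : AddChar K ℂ) (Q : ℕ) (φ ψ a b c : IrrCharacter X) : Prop where
  hQ : Fintype.card K = 2 * Q + 1
  phi : (φ : X → ℂ) = indFun P (D.uni.th e : P → ℂ)
  off : ∀ x, x ∉ P → (a : X → ℂ) x + (b : X → ℂ) x - (c : X → ℂ) x = 0
  dphi : charDegree (φ : X → ℂ) = 2 * Q
  dpsi : charDegree (ψ : X → ℂ) = 2 * Q * Fintype.card K
  da : charDegree (a : X → ℂ) = Q * 3 ^ m
  db : charDegree (b : X → ℂ) = Q * 3 ^ m
  dc : charDegree (c : X → ℂ) = 2 * Q * 3 ^ m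
  ab : a ≠ b
  aa : a ≠ cj a
  ab' : a ≠ cj b
  bb : b ≠ cj b
  cc : c ≠ cj c

theorem add_orth {a b a' b' : IrrCharacter X}
    (h : classInner ((a : X → ℂ) + (b : X → ℂ)) ((a' : X → ℂ) + (b' : X → ℂ)) = 0) :
    a ≠ a' ∧ a ≠ b' ∧ b ≠ b' := by
  rw [classInner_add_left, classInner_add_right, classInner_add_right] at h
  obtain ⟨n1, h1⟩ := classInner_isNat (isIrr_isCharacter a.2) (isIrr_isCharacter a'.2)
  obtain ⟨n2, h2⟩ := classInner_isNat (isIrr_isCharacter a.2) (isIrr_isCharacter b'.2)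
  obtain ⟨n3, h3⟩ := classInner_isNat (isIrr_isCharacter b.2) (isIrr_isCharacter a'.2)
  obtain ⟨n4, h4⟩ := classInner_isNat (isIrr_isCharacter b.2) (isIrr_isCharacter b'.2)
  rw [h1, h2, h3, h4] at h
  have h5 : n1 + n2 + (n3 + n4) = 0 := by exact_mod_cast h
  refine ⟨?_, ?_, ?_⟩
  · rintro rfl
    rw [classInner_irr_self a.2] at h1
    have : n1 = 1 := by exact_mod_cast h1.symm
    omega
  · rintro rfl
    rw [classInner_irr_self a.2] at h2
    have : n2 = 1 := by exact_mod_cast h2.symm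
    omega
  · rintro rfl
    rw [classInner_irr_self b.2] at h4
    have : n4 = 1 := by exact_mod_cast h4.symm
    omega

/-- the two constituents have the same degree -/
theorem Bor.apply_one_eq (D : Bor m U h P) {ν : IrrCharacter P} {a b : IrrCharacter X} (hab : a ≠ b)
    (H : indFun P (ν : P → ℂ) = (a : X → ℂ) + (b : X → ℂ)) : (a : X → ℂ) 1 = (b : X → ℂ) 1 := by
  classical
  have ha : IsCharacter P (fun x : P => (a : X → ℂ) x) := isCharacter_comp P.subtype (isIrr_isCharacter a.2)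
  have hb : IsCharacter P (fun x : P => (b : X → ℂ) x) := isCharacter_comp P.subtype (isIrr_isCharacter b.2)
  have h1 : classInner (ν : P → ℂ) (fun x : P => (a : X → ℂ) x) = 1 := by
    rw [← CharactersDeep.NormalInd.classInner_indFun P _ _ (isIrr_isClassFunction a.2), H, classInner_add_left,
      classInner_irr_self a.2, classInner_irr_ne b.2 a.2 fun h => hab (Subtype.ext h).symm, add_zero]
  have h2 : classInner (ν : P → ℂ) (fun x : P => (b : X → ℂ) x) = 1 := by
    rw [← CharactersDeep.NormalInd.classInner_indFun P _ _ (isIrr_isClassFunction b.2), H, classInner_add_left,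
      classInner_irr_self b.2, classInner_irr_ne a.2 b.2 fun h => hab (Subtype.ext h), zero_add]
  have h3 : (fun x : P => (a : X → ℂ) x) = fun x : P => (b : X → ℂ) x := by
    refine classFunction_ext (isCharacter_isClassFunction ha) (isCharacter_isClassFunction hb) fun γ hγ => ?_
    rw [← classInner_conj_symm, ← classInner_conj_symm _ (fun x : P => (b : X → ℂ) x)]
    congr 1
    by_cases hc : ∃ x, (⟨γ, hγ⟩ : IrrCharacter P) = D.tw x ν
    · obtain ⟨x, hx⟩ := hc
      have h4 : γ = (D.tw x ν : P → ℂ) := congrArg Subtype.val hx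
      rw [h4, D.inner_tw (isIrr_isClassFunction a.2), D.inner_tw (isIrr_isClassFunction b.2), h1, h2]
    · push Not at hc
      have h4 : classInner γ (fun x : P => (a : X → ℂ) x) + classInner γ (fun x : P => (b : X → ℂ) x) = 0 := by
        rw [← classInner_add_right]
        have h5 : ((fun x : P => (a : X → ℂ) x) + fun x : P => (b : X → ℂ) x) =
            fun x : P => indFun P (ν : P → ℂ) x := by
          rw [H]
          rfl
        rw [h5, D.ind_res, classInner_sum_right]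
        exact Finset.sum_eq_zero fun x _ => classInner_irr_ne hγ (D.tw x ν).2 fun h6 => hc x (Subtype.ext h6)
      obtain ⟨n1, h5⟩ := classInner_isNat (isIrr_isCharacter hγ) ha
      obtain ⟨n2, h6⟩ := classInner_isNat (isIrr_isCharacter hγ) hb
      rw [h5, h6] at h4 ⊢
      have h7 : n1 + n2 = 0 := by exact_mod_cast h4
      rw [show n1 = 0 by omega, show n2 = 0 by omega]
  exact congrFun h3 1

theorem exists_pre (D : Bor m U h P) (hK : Fintype.card K = 3 ^ (2 * m + 1)) {e : AddChar K ℂ} (he : e ≠ 1)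
    (he3 : ∀ x, e (x ^ 3) = e x) : ∃ (Q : ℕ) (φ ψ a b c : IrrCharacter X), Pre D e Q φ ψ a b c := by
  classical
  have := D.normal
  obtain ⟨Q, hQ⟩ : ∃ Q, Fintype.card K = 2 * Q + 1 := by
    rw [hK]
    exact odd_three_pow _
  have hi : (P.index : ℂ) = 2 * Q := by
    rw [D.index_P, hQ, Nat.add_sub_cancel]
    push_cast
    rfl
  obtain ⟨s, hs⟩ := exists_e_ne he (one_ne_zero (α := K))
  rw [one_mul] at hs
  obtain ⟨ν₀, h0⟩ := D.uni.exists_nu hK he he3 0
  obtain ⟨ν₁, h1⟩ := D.uni.exists_nu hK he he3 s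
  obtain ⟨τ, hτ⟩ := D.uni.exists_tau he
  replace h0 : IsNu D.uni e 0 ν₀ := h0
  replace h1 : IsNu D.uni e s ν₁ := h1
  replace hτ : IsTau D.uni e τ := hτ
  have n0 : classInner (indFun P (ν₀ : P → ℂ)) (indFun P (ν₀ : P → ℂ)) = 2 := by
    rw [D.inner_ind]
    have h2 : (Finset.univ.filter fun a : Kˣ => ν₀ = D.tw a ν₀) = {1, -1} := by
      ext a
      simp only [Finset.mem_filter, Finset.mem_univ, true_and, Finset.mem_insert, Finset.mem_singleton]
      refine ⟨h0.tw_cases D hK he h0, ?_⟩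
      rintro (rfl | rfl)
      · rw [D.tw_one]
      · have h3 := h0.tw_neg D
        rw [neg_zero] at h3
        exact h0.ext h3
    rw [h2, Finset.card_pair fun h3 => neg_one_ne_one hK (congrArg Units.val h3).symm]
    rfl
  have i1 : IsIrrCharacter X (indFun P (ν₁ : P → ℂ)) := D.irr_ind fun a ha => by
    rcases h1.tw_cases D hK he h1 ha with h2 | h2
    · exact h2
    · subst h2
      have h3 := h1.tw_neg D
      rw [← ha] at h3
      exact absurd (h1.e_eq h3) (e_neg_ne hK hs)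
  obtain ⟨a, b, hab, H⟩ := exists_add_of_norm_two
    (CharDeep.CliffordCorr.isCharacter_indFun P (isIrr_isCharacter ν₀.2)) n0
  have e1 := D.apply_one_eq hab H
  have e2 := congrFun H 1
  rw [CharactersDeep.NormalInd.indFun_one, hi, h0.one, Pi.add_apply, ← e1] at e2
  have e3 : (a : X → ℂ) 1 = ((Q * 3 ^ m : ℕ) : ℂ) := by
    push_cast
    linear_combination (-1 / 2 : ℂ) * e2
  have o0 : classInner ((a : X → ℂ) + (b : X → ℂ)) ((cj a : X → ℂ) + (cj b : X → ℂ)) = 0 := by
    have h2 : (cj a : X → ℂ) + (cj b : X → ℂ) = indFun P (cj ν₀ : P → ℂ) := by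
      change _ = indFun P fun x => conj ((ν₀ : P → ℂ) x)
      rw [indFun_conj, H]
      funext x
      rw [Pi.add_apply, Pi.add_apply, map_add, cj_apply, cj_apply]
    rw [← H, h2]
    exact D.inner_ind_zero (h0.ne_tw_cj D hK he h0)
  obtain ⟨o1, o2, o3⟩ := add_orth o0
  refine ⟨Q, ⟨_, D.irr_ind (th_tw_eq D hK he)⟩, ⟨_, D.irr_ind (hτ.tw_eq D hK he)⟩, a, b, ⟨_, i1⟩, hQ, rfl, ?_, ?_, ?_,
    charDegree_of_eq e3, charDegree_of_eq (e1 ▸ e3), ?_, hab, o1, o2, o3, ?_⟩
  · intro x hx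
    rw [← Pi.add_apply (a : X → ℂ), ← H, CharactersDeep.NormalInd.indFun_of_not_mem P _ hx]
    change 0 - indFun P (ν₁ : P → ℂ) x = 0
    rw [CharactersDeep.NormalInd.indFun_of_not_mem P _ hx, sub_zero]
  · apply charDegree_of_eq
    change indFun P _ 1 = _
    rw [CharactersDeep.NormalInd.indFun_one, hi, ← D.uni.uu_zero, Uni.th_uu, e.map_zero_eq_one]
    push_cast
    ring
  · apply charDegree_of_eq
    change indFun P _ 1 = _
    rw [CharactersDeep.NormalInd.indFun_one, hi, hτ.one]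
    push_cast
    ring
  · apply charDegree_of_eq
    change indFun P _ 1 = _
    rw [CharactersDeep.NormalInd.indFun_one, hi, h1.one]
    push_cast
    ring
  · intro h2
    have h3 : classInner (indFun P (ν₁ : P → ℂ)) (indFun P (cj ν₁ : P → ℂ)) = 0 :=
      D.inner_ind_zero (h1.ne_tw_cj D hK he h1)
    have h4 : indFun P (cj ν₁ : P → ℂ) = indFun P (ν₁ : P → ℂ) := by
      change (indFun P fun x => conj ((ν₁ : P → ℂ) x)) = _
      rw [indFun_conj]
      exact (congrArg Subtype.val h2).symm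
    rw [h4, classInner_irr_self i1] at h3
    exact one_ne_zero h3

namespace Pre

variable {D : Bor m U h P} {e : AddChar K ℂ} {Q : ℕ} {φ ψ a b c : IrrCharacter X} (H : Pre D e Q φ ψ a b c)
  (hK : Fintype.card K = 3 ^ (2 * m + 1))

include H hK

theorem not_dvd : ¬ 3 ∣ Q := by
  have h1 : 3 ∣ Fintype.card K := by
    rw [hK]
    exact dvd_pow_self 3 (by omega)
  rw [H.hQ] at h1
  omega

theorem not_dvd' : ¬ 3 ∣ 2 * Q := by
  have := H.not_dvd hK
  omega

theorem nu_phi : nu φ = 0 := nu_of_deg (by rw [H.dphi, pow_zero, mul_one]) (H.not_dvd' hK)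

theorem nu_psi : nu ψ = 2 * m + 1 := nu_of_deg (by rw [H.dpsi, hK]) (H.not_dvd' hK)

theorem nu_a : nu a = m := nu_of_deg H.da (H.not_dvd hK)

theorem nu_b : nu b = m := nu_of_deg H.db (H.not_dvd hK)

theorem nu_c : nu c = m := nu_of_deg H.dc (H.not_dvd' hK)

omit H hK in
theorem nu_lam (ω : Kˣ →* ℂˣ) : nu (D.lam ω) = 0 :=
  nu_of_deg (k := 1) (by rw [D.deg_lam, pow_zero, mul_one]) (by norm_num)

theorem ne_c {x y : IrrCharacter X} (hx : charDegree (x : X → ℂ) = Q * 3 ^ m)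
    (hy : charDegree (y : X → ℂ) = 2 * Q * 3 ^ m) : x ≠ y := by
  rintro rfl
  have h1 := H.not_dvd hK
  have h2 : 0 < Q := Nat.pos_of_ne_zero (by rintro rfl; exact h1 (dvd_zero 3))
  have h3 : 0 < Q * 3 ^ m := by positivity
  rw [hx, mul_assoc] at hy
  omega

/-- the six characters of the middle layer are different -/
theorem dist : (a ≠ b ∧ a ≠ c ∧ a ≠ cj a ∧ a ≠ cj b ∧ a ≠ cj c) ∧ (b ≠ c ∧ b ≠ cj a ∧ b ≠ cj b ∧ b ≠ cj c) ∧
    (c ≠ cj a ∧ c ≠ cj b ∧ c ≠ cj c) ∧ (cj a ≠ cj b ∧ cj a ≠ cj c) ∧ cj b ≠ cj c := by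
  have da' : charDegree (cj a : X → ℂ) = Q * 3 ^ m := by rw [deg_cj, H.da]
  have db' : charDegree (cj b : X → ℂ) = Q * 3 ^ m := by rw [deg_cj, H.db]
  have dc' : charDegree (cj c : X → ℂ) = 2 * Q * 3 ^ m := by rw [deg_cj, H.dc]
  refine ⟨⟨H.ab, H.ne_c hK H.da H.dc, H.aa, H.ab', H.ne_c hK H.da dc'⟩,
    ⟨H.ne_c hK H.db H.dc, ?_, H.bb, H.ne_c hK H.db dc'⟩,
    ⟨(H.ne_c hK da' H.dc).symm, (H.ne_c hK db' H.dc).symm, H.cc⟩, ⟨?_, H.ne_c hK da' dc'⟩, H.ne_c hK db' dc'⟩
  · intro h1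
    apply H.ab'
    rw [h1, cj_cj]
  · intro h1
    apply H.ab
    rw [← cj_cj a, h1, cj_cj]

variable [DecidableEq (IrrCharacter X)]

theorem nu_mid {x : IrrCharacter X} (hx : x ∈ ({a, b, c, cj a, cj b, cj c} : Finset (IrrCharacter X))) : nu x = m := by
  simp only [Finset.mem_insert, Finset.mem_singleton] at hx
  rcases hx with rfl | rfl | rfl | rfl | rfl | rfl
  · exact H.nu_a hK
  · exact H.nu_b hK
  · exact H.nu_c hK
  · rw [nu_cj, H.nu_a hK]
  · rw [nu_cj, H.nu_b hK]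
  · rw [nu_cj, H.nu_c hK]

theorem sum_mid {M : Type*} [AddCommMonoid M] (F : IrrCharacter X → M) :
    ∑ x ∈ ({a, b, c, cj a, cj b, cj c} : Finset (IrrCharacter X)), F x =
      F a + F b + F c + F (cj a) + F (cj b) + F (cj c) := by
  obtain ⟨⟨h1, h2, h3, h4, h5⟩, ⟨h6, h7, h8, h9⟩, ⟨h10, h11, h12⟩, ⟨h13, h14⟩, h15⟩ := H.dist hK
  rw [Finset.sum_insert (by simp [h1, h2, h3, h4, h5]), Finset.sum_insert (by simp [h6, h7, h8, h9]),
    Finset.sum_insert (by simp [h10, h11, h12]), Finset.sum_insert (by simp [h13, h14]), Finset.sum_pair h15]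
  simp only [add_assoc]

variable [Fintype (Kˣ →* ℂˣ)]

theorem sum_s (hm : 1 ≤ m) {M : Type*} [AddCommMonoid M] (F : IrrCharacter X → M) :
    ∑ x ∈ Finset.univ.image D.lam ∪ insert φ (insert ψ {a, b, c, cj a, cj b, cj c}), F x =
      ∑ ω, F (D.lam ω) + (F φ + (F ψ + (F a + F b + F c + F (cj a) + F (cj b) + F (cj c)))) := by
  have h1 := H.nu_phi hK
  have h2 := H.nu_psi hK
  rw [Finset.sum_union, Finset.sum_image fun _ _ _ _ h => D.lam_inj h, Finset.sum_insert, Finset.sum_insert,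
    H.sum_mid hK]
  · intro h3
    have := H.nu_mid hK h3
    omega
  · rw [Finset.mem_insert]
    rintro (h3 | h3)
    · rw [h3] at h1
      omega
    · have := H.nu_mid hK h3
      omega
  · rw [Finset.disjoint_left]
    intro x hx hx'
    obtain ⟨ω, -, rfl⟩ := Finset.mem_image.1 hx
    have h3 := nu_lam (D := D) ω
    rw [Finset.mem_insert, Finset.mem_insert] at hx'
    rcases hx' with h4 | h4 | h4
    · have h5 := D.deg_lam ω
      rw [h4, H.dphi] at h5
      omega
    · rw [h4] at h3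
      omega
    · have := H.nu_mid hK h4
      omega

variable [Fintype (IrrCharacter X)]

theorem s_eq (hm : 1 ≤ m) :
    Finset.univ.image D.lam ∪ insert φ (insert ψ {a, b, c, cj a, cj b, cj c}) = Finset.univ := by
  have h1 : ∑ χ : IrrCharacter X, charDegree (χ : X → ℂ) ^ 2 = Nat.card X := by
    have h2 := Cfsg.Agent.S0134.result (G := X)
    rw [finsum_eq_sum_of_fintype] at h2
    have h3 : ((∑ χ : IrrCharacter X, charDegree (χ : X → ℂ) ^ 2 : ℕ) : ℂ) = Nat.card X := by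
      rw [← h2]
      push_cast
      exact Finset.sum_congr rfl fun χ _ => by rw [coe_charDegree χ.2]
    exact_mod_cast h3
  have h2 := H.sum_s hK hm fun χ => charDegree (χ : X → ℂ) ^ 2
  simp only [D.deg_lam, deg_cj, H.dphi, H.dpsi, H.da, H.db, H.dc, one_pow, Finset.sum_const, Finset.card_univ,
    card_hom, smul_eq_mul, mul_one] at h2
  have h3 : Fintype.card K = 3 * (3 ^ m) ^ 2 := by
    rw [hK]
    ring
  have h4 : ∑ x ∈ Finset.univ.image D.lam ∪ insert φ (insert ψ {a, b, c, cj a, cj b, cj c}),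
      charDegree (x : X → ℂ) ^ 2 = ∑ χ : IrrCharacter X, charDegree (χ : X → ℂ) ^ 2 := by
    rw [h1, h2, D.card_X]
    have h5 := H.hQ
    generalize Fintype.card K = q at *
    generalize 3 ^ m = r at *
    subst h5
    rw [Nat.add_sub_cancel]
    zify at h3 ⊢
    linear_combination (-4 * (Q : ℤ) ^ 2) * h3
  by_contra hne
  obtain ⟨χ, hχ⟩ : ∃ χ, χ ∉ Finset.univ.image D.lam ∪ insert φ (insert ψ {a, b, c, cj a, cj b, cj c}) := by
    by_contra h5
    push Not at h5
    exact hne (Finset.eq_univ_of_forall h5)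
  have h5 := Finset.sum_lt_sum_of_subset (f := fun χ : IrrCharacter X => charDegree (χ : X → ℂ) ^ 2)
    (Finset.subset_univ _) (Finset.mem_univ χ) hχ (pow_pos (charDegree_pos χ.2) 2) fun _ _ _ => Nat.zero_le _
  omega

/-- **The list is complete.** -/
theorem sum_univ (hm : 1 ≤ m) {M : Type*} [AddCommMonoid M] (F : IrrCharacter X → M) :
    ∑ x, F x = ∑ ω, F (D.lam ω) + (F φ + (F ψ + (F a + F b + F c + F (cj a) + F (cj b) + F (cj c)))) := by
  rw [← H.s_eq hK hm, H.sum_s hK hm]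

theorem all (hm : 1 ≤ m) (χ : IrrCharacter X) :
    nu χ = 0 ∨ χ = ψ ∨ χ ∈ ({a, b, c, cj a, cj b, cj c} : Finset (IrrCharacter X)) := by
  have h1 := Finset.mem_univ χ
  rw [← H.s_eq hK hm, Finset.mem_union, Finset.mem_insert, Finset.mem_insert] at h1
  rcases h1 with h1 | h1 | h1 | h1
  · obtain ⟨ω, -, rfl⟩ := Finset.mem_image.1 h1
    exact Or.inl (nu_lam ω)
  · rw [h1]
    exact Or.inl (H.nu_phi hK)
  · exact Or.inr (Or.inl h1)
  · exact Or.inr (Or.inr h1)

theorem card_irr (hm : 1 ≤ m) : Fintype.card (IrrCharacter X) = Fintype.card K + 7 := by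
  have h1 := H.sum_univ hK hm fun _ => (1 : ℕ)
  simp only [Finset.sum_const, Finset.card_univ, card_hom, smul_eq_mul, mul_one] at h1
  have h2 := H.hQ
  omega

omit [DecidableEq (IrrCharacter X)] [Fintype (Kˣ →* ℂˣ)] [Fintype (IrrCharacter X)] in
theorem shape (hm : 1 ≤ m) : Shape m X := by
  classical
  have := finite_irr (G := X)
  have := Fintype.ofFinite (IrrCharacter X)
  have : Finite (Kˣ →* ℂˣ) := Finite.of_injective _ D.lam_inj
  have := Fintype.ofFinite (Kˣ →* ℂˣ)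
  have hψ := H.nu_psi hK
  have h1 : ∀ χ : IrrCharacter X, nu χ = m ↔ χ ∈ ({a, b, c, cj a, cj b, cj c} : Finset (IrrCharacter X)) := by
    intro χ
    refine ⟨fun h2 => ?_, H.nu_mid hK⟩
    rcases H.all hK hm χ with h3 | h3 | h3
    · omega
    · rw [h3] at h2
      omega
    · exact h3
  refine ⟨fun χ => ?_, ?_, fun χ hχ => ?_, ?_⟩
  · rcases H.all hK hm χ with h3 | h3 | h3
    · exact Or.inl h3
    · rw [h3]
      exact Or.inr (Or.inr (Or.inl hψ))
    · exact Or.inr (Or.inl (H.nu_mid hK h3))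
  · rw [Nat.card_congr (Equiv.subtypeEquivRight h1), Nat.card_eq_fintype_card, Fintype.card_coe,
      Finset.card_eq_sum_ones, H.sum_mid hK]
  · rw [h1] at hχ
    simp only [Finset.mem_insert, Finset.mem_singleton] at hχ
    rcases hχ with rfl | rfl | rfl | rfl | rfl | rfl
    · exact H.aa.symm
    · exact H.bb.symm
    · exact H.cc.symm
    · rw [cj_cj]; exact H.aa
    · rw [cj_cj]; exact H.bb
    · rw [cj_cj]; exact H.cc
  · rw [Nat.card_eq_one_iff_exists]
    refine ⟨⟨ψ, hψ⟩, ?_⟩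
    rintro ⟨χ, hχ⟩
    apply Subtype.ext
    rcases H.all hK hm χ with h3 | h3 | h3
    · omega
    · exact h3
    · have := H.nu_mid hK h3
      omega

omit [DecidableEq (IrrCharacter X)] [Fintype (Kˣ →* ℂˣ)] [Fintype (IrrCharacter X)] in
/-- **The degree formula.** -/
theorem degree (hm : 1 ≤ m) {χ : X → ℂ} (hχ : IsClassFunction X χ) :
    χ 1 = classInner (fun x : P => χ x) (fun _ => 1) + 2 * Q * classInner χ (φ : X → ℂ) +
      2 * Q * Fintype.card K * classInner χ (ψ : X → ℂ) +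
      Q * 3 ^ m * (classInner χ (a : X → ℂ) + classInner χ (b : X → ℂ) + 2 * classInner χ (c : X → ℂ) +
        (classInner χ (cj a : X → ℂ) + classInner χ (cj b : X → ℂ) + 2 * classInner χ (cj c : X → ℂ))) := by
  classical
  have := finite_irr (G := X)
  have := Fintype.ofFinite (IrrCharacter X)
  have : Finite (Kˣ →* ℂˣ) := Finite.of_injective _ D.lam_inj
  have := Fintype.ofFinite (Kˣ →* ℂˣ)
  have h1 := congrFun (classFunction_eq_sum hχ) 1
  rw [Finset.sum_apply, H.sum_univ hK hm] at h1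
  have h2 : ∀ x : IrrCharacter X, (x : X → ℂ) 1 = (charDegree (x : X → ℂ) : ℂ) := fun x => (coe_charDegree x.2).symm
  simp only [Pi.smul_apply, smul_eq_mul, h2, D.deg_lam, deg_cj, H.dphi, H.dpsi, H.da, H.db, H.dc, Nat.cast_one,
    mul_one] at h1
  have h3 : ∑ ω : Kˣ →* ℂˣ, classInner χ (D.lam ω : X → ℂ) = classInner (fun x : P => χ x) (fun _ => 1) := by
    rw [← classInner_sum_right, D.sum_lam, ← classInner_conj_symm,
      CharactersDeep.NormalInd.classInner_indFun P _ _ hχ, classInner_conj_symm]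
  rw [h1, h3]
  push_cast
  ring

end Pre

end Cfsg.Agent.TID.Ree
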