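import Cfsg.Agent.TID.Ree.Gen
import Cfsg.Agent.LieRecognition.ReeSplit

/-!
# S4622, row `SRee`: characters of the Sylow `3`-subgroup (helper3)

* `exists_e`: an additive character with `e (x ^ 3) = e x`;
* `Uni`: the multiplication of the unipotent radical; `Uni.theta`, `Uni.exists_nu`, `Uni.exists_tau`: irreducible
  characters of degrees `1`, `3 ^ m`, `q`.
-/

set_option autoImplicit false
set_option linter.unusedSectionVars false

namespace Cfsg.Agent.TID.Ree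

open Cfsg Cfsg.Agent.Characters.Core Cfsg.Agent.H672
open Cfsg.Agent.LieRecognition Cfsg.Agent.LieRecognition.ReeAbs Cfsg.Agent.LieRecognition.ReeSplit
open scoped ComplexConjugate

universe u

variable {K : Type*} [Field K] [Fintype K] {m : ℕ}

/-! ### the additive character -/

theorem exists_e (hK : Fintype.card K = 3 ^ (2 * m + 1)) :
    ∃ e : AddChar K ℂ, e ≠ 1 ∧ ∀ x, e (x ^ 3) = e x := by
  classical
  have := charP_three hK
  have : Fact (Nat.Prime 3) := ⟨Nat.prime_three⟩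
  let φ : K →+ K := (frobenius K 3).toAddMonoidHom - AddMonoidHom.id K
  have hφ : ∀ x, φ x = x ^ 3 - x := fun x => rfl
  have h1 : ¬ Function.Surjective φ := by
    intro h
    have h2 := Finite.injective_iff_surjective.2 h
    have h3 : φ 1 = φ 0 := by rw [hφ, hφ]; ring
    exact one_ne_zero (h2 h3)
  unfold Function.Surjective at h1
  push Not at h1
  obtain ⟨y, hy⟩ := h1
  have h2 : (QuotientAddGroup.mk' φ.range y) ≠ 0 := by
    intro h
    rw [QuotientAddGroup.mk'_apply, QuotientAddGroup.eq_zero_iff] at h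
    obtain ⟨x, hx⟩ := h
    exact hy x hx
  obtain ⟨ψ, hψ⟩ := AddChar.exists_apply_ne_zero.2 h2
  refine ⟨ψ.compAddMonoidHom (QuotientAddGroup.mk' φ.range), fun h => hψ ?_, fun x => ?_⟩
  · have := DFunLike.congr_fun h y
    simpa using this
  · rw [AddChar.compAddMonoidHom_apply, AddChar.compAddMonoidHom_apply]
    congr 1
    rw [QuotientAddGroup.mk'_apply, QuotientAddGroup.mk'_apply, QuotientAddGroup.eq]
    exact ⟨-x, by rw [map_neg, hφ]; ring⟩

theorem e_ne_zero (e : AddChar K ℂ) (x : K) : e x ≠ 0 := by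
  intro h
  have h1 := e.map_add_eq_mul x (-x)
  rw [add_neg_cancel, e.map_zero_eq_one, h, zero_mul] at h1
  exact one_ne_zero h1

/-- the values as units -/
noncomputable def eu (e : AddChar K ℂ) (x : K) : ℂˣ := Units.mk0 (e x) (e_ne_zero e x)

theorem coe_eu (e : AddChar K ℂ) (x : K) : (eu e x : ℂ) = e x := rfl

theorem eu_add (e : AddChar K ℂ) (x y : K) : eu e (x + y) = eu e x * eu e y :=
  Units.ext (e.map_add_eq_mul x y)

theorem eu_zero (e : AddChar K ℂ) : eu e 0 = 1 := Units.ext e.map_zero_eq_one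

theorem eq_zero_of_e {e : AddChar K ℂ} (he : e ≠ 1) {c : K} (h : ∀ x, e (c * x) = 1) : c = 0 := by
  by_contra hc
  apply AddChar.IsPrimitive.of_ne_one he hc
  ext x
  rw [AddChar.mulShift_apply, h, AddChar.one_apply]

theorem eq_of_e {e : AddChar K ℂ} (he : e ≠ 1) {c d : K} (h : ∀ x, e (c * x) = e (d * x)) : c = d := by
  rw [← sub_eq_zero]
  refine eq_zero_of_e he fun x => ?_
  have h1 : e (c * x) = e ((c - d) * x) * e (d * x) := by
    rw [← e.map_add_eq_mul]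
    congr 1
    ring
  rw [h] at h1
  exact (mul_eq_right₀ (e_ne_zero e _)).1 h1.symm

theorem exists_e_ne {e : AddChar K ℂ} (he : e ≠ 1) {c : K} (hc : c ≠ 0) : ∃ x, e (c * x) ≠ 1 := by
  by_contra h
  push Not at h
  exact hc (eq_zero_of_e he h)

theorem e_pow {e : AddChar K ℂ} (he3 : ∀ x, e (x ^ 3) = e x) (k : ℕ) (x : K) : e (x ^ 3 ^ k) = e x := by
  induction k with
  | zero => rw [pow_zero, pow_one]
  | succ k ih => rw [pow_succ, pow_mul, he3, ih]

omit [Fintype K] in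
theorem pow_fix {t : K} (ht : t ^ 3 = t) (k : ℕ) : t ^ 3 ^ k = t := by
  induction k with
  | zero => rw [pow_zero, pow_one]
  | succ k ih => rw [pow_succ, pow_mul, ih, ht]

theorem e_comm {e : AddChar K ℂ} (he3 : ∀ x, e (x ^ 3) = e x) {t : K} (ht : t ^ 3 = t) (k : ℕ) (a : K) :
    e (t * a ^ 3 ^ k - a * t ^ 3 ^ k) = 1 := by
  have h1 : e (t * a ^ 3 ^ k) = e (a * t) := by
    rw [← e_pow he3 k (a * t), mul_pow, pow_fix ht, mul_comm]
  rw [pow_fix ht, sub_eq_add_neg, e.map_add_eq_mul, h1, ← e.map_add_eq_mul, add_neg_cancel, e.map_zero_eq_one]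

theorem pow_sigma_sq (hK : Fintype.card K = 3 ^ (2 * m + 1)) (a : K) : (a ^ 3 ^ (m + 1)) ^ 3 ^ (m + 1) = a ^ 3 := by
  rw [← pow_mul, ← pow_add, show m + 1 + (m + 1) = (2 * m + 1) + 1 by ring, pow_succ, pow_mul, ← hK,
    FiniteField.pow_card]

theorem exists_comm (hK : Fintype.card K = 3 ^ (2 * m + 1)) {e : AddChar K ℂ} (he : e ≠ 1)
    (he3 : ∀ x, e (x ^ 3) = e x) {t : K} (ht : t ^ 3 ≠ t) :
    ∃ a, e (t * a ^ 3 ^ (m + 1) - a * t ^ 3 ^ (m + 1)) ≠ 1 := by
  have := charP_three hK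
  have : Fact (Nat.Prime 3) := ⟨Nat.prime_three⟩
  have h1 : (t - t ^ 3) ^ 3 ^ (m + 1) ≠ 0 := pow_ne_zero _ (sub_ne_zero.2 ht.symm)
  obtain ⟨y, hy⟩ := exists_e_ne he h1
  obtain ⟨a, rfl⟩ := (Finite.injective_iff_surjective.1 (frobenius_inj K 3)) y
  refine ⟨a, fun h => hy ?_⟩
  rw [← h, frobenius_def, sub_pow_char_pow, sub_mul, sub_eq_add_neg, sub_eq_add_neg, e.map_add_eq_mul,
    e.map_add_eq_mul]
  congr 1
  · rw [← e_pow he3 (m + 1) (t * a ^ 3 ^ (m + 1)), mul_pow, pow_sigma_sq hK]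
  · rw [← he3 (-(a * t ^ 3 ^ (m + 1))), ← pow_mul, mul_comm 3, pow_mul]
    congr 1
    ring

theorem cube_iff {t : K} : t ^ 3 = t ↔ t = 0 ∨ t = 1 ∨ t = -1 := by
  constructor
  · intro h
    have h1 : t * ((t - 1) * (t + 1)) = 0 := by linear_combination h
    rcases mul_eq_zero.1 h1 with h2 | h2
    · exact Or.inl h2
    · rcases mul_eq_zero.1 h2 with h3 | h3
      · exact Or.inr (Or.inl (sub_eq_zero.1 h3))
      · exact Or.inr (Or.inr (eq_neg_of_add_eq_zero_left h3))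
  · rintro (rfl | rfl | rfl) <;> ring

theorem card_cube (hK : Fintype.card K = 3 ^ (2 * m + 1)) : Nat.card {t : K // t ^ 3 = t} = 3 := by
  classical
  have h1 : (Finset.univ.filter fun t : K => t ^ 3 = t) = {0, 1, -1} := by
    ext t
    simp [cube_iff]
  rw [Nat.card_eq_fintype_card, Fintype.card_subtype, h1]
  refine Finset.card_eq_three.2 ⟨0, 1, -1, zero_ne_one, ?_, (neg_one_ne_one hK).symm, rfl⟩
  exact (neg_ne_zero.2 one_ne_zero).symm

/-! ### the unipotent radical -/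

variable {X : Type u} [Group X]

/-- The multiplication of the unipotent radical. -/
structure Uni (m : ℕ) (U : K → K → K → X) (P : Subgroup X) : Prop where
  U_mul : ∀ t u v t' u' v', U t u v * U t' u' v' =
    U (t + t') (u + u' - t * t' ^ (3 ^ (m + 1)))
      (v + v' - u * t' - t ^ 2 * t' ^ (3 ^ (m + 1)) + t * t' * t' ^ (3 ^ (m + 1)))
  inj : ∀ t u v t' u' v', U t u v = U t' u' v' → t = t' ∧ u = u' ∧ v = v'
  mem : ∀ x, x ∈ P ↔ ∃ t u v, x = U t u v

namespace Uni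

variable {U : K → K → K → X} {P : Subgroup X} (D : Uni m U P)

/-- the elements -/
def uu (t u v : K) : P := ⟨U t u v, (D.mem _).2 ⟨t, u, v, rfl⟩⟩

theorem coe_uu (t u v : K) : (D.uu t u v : X) = U t u v := rfl

theorem uu_mul (t u v t' u' v' : K) : D.uu t u v * D.uu t' u' v' =
    D.uu (t + t') (u + u' - t * t' ^ (3 ^ (m + 1)))
      (v + v' - u * t' - t ^ 2 * t' ^ (3 ^ (m + 1)) + t * t' * t' ^ (3 ^ (m + 1))) :=
  Subtype.ext (D.U_mul _ _ _ _ _ _)

theorem exists_uu (x : P) : ∃ t u v, x = D.uu t u v := by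
  obtain ⟨t, u, v, h⟩ := (D.mem x).1 x.2
  exact ⟨t, u, v, Subtype.ext h⟩

theorem uu_inj {t u v t' u' v' : K} (h : D.uu t u v = D.uu t' u' v') : t = t' ∧ u = u' ∧ v = v' :=
  D.inj _ _ _ _ _ _ (congrArg Subtype.val h)

theorem uu_zero : D.uu 0 0 0 = 1 := by
  have h1 := D.uu_mul 0 0 0 0 0 0
  rw [zero_pow_three_pow] at h1
  simp only [add_zero, mul_zero, sub_zero] at h1
  exact left_eq_mul.mp h1.symm

include D in
theorem U_zero : U 0 0 0 = 1 := congrArg Subtype.val D.uu_zero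

/-- the coordinates -/
noncomputable def eqv : K × K × K ≃ P :=
  Equiv.ofBijective (fun p => D.uu p.1 p.2.1 p.2.2) ⟨fun p p' h => by
    obtain ⟨h1, h2, h3⟩ := D.uu_inj h
    exact Prod.ext h1 (Prod.ext h2 h3), fun x => by
    obtain ⟨t, u, v, rfl⟩ := D.exists_uu x
    exact ⟨(t, u, v), rfl⟩⟩

theorem eqv_apply (p : K × K × K) : D.eqv p = D.uu p.1 p.2.1 p.2.2 := rfl

theorem co_uu (t u v : K) : D.eqv.symm (D.uu t u v) = (t, u, v) := D.eqv.symm_apply_apply (t, u, v)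

include D in
theorem card_P : Nat.card P = Fintype.card K ^ 3 := by
  rw [← Nat.card_congr D.eqv, Nat.card_prod, Nat.card_prod, Nat.card_eq_fintype_card]
  ring

include D in
theorem finite_P : Finite P := Finite.of_equiv _ D.eqv

theorem inner_eq [Fintype P] (α β : P → ℂ) : classInner α β = ((Fintype.card K : ℂ) ^ 3)⁻¹ *
    ∑ p : K × K × K, α (D.uu p.1 p.2.1 p.2.2) * conj (β (D.uu p.1 p.2.1 p.2.2)) := by
  rw [classInner_def, D.card_P, ← D.eqv.sum_comp]
  push_cast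
  rfl

/-- the first coordinate -/
noncomputable def tt : P →* Multiplicative K where
  toFun x := Multiplicative.ofAdd (D.eqv.symm x).1
  map_one' := by rw [← D.uu_zero, co_uu]; rfl
  map_mul' x y := by
    obtain ⟨t, u, v, rfl⟩ := D.exists_uu x
    obtain ⟨t', u', v', rfl⟩ := D.exists_uu y
    rw [uu_mul, co_uu, co_uu, co_uu]
    rfl

theorem tt_uu (t u v : K) : D.tt (D.uu t u v) = Multiplicative.ofAdd t := by
  change Multiplicative.ofAdd (D.eqv.symm _).1 = _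
  rw [co_uu]

/-- the linear character -/
noncomputable def theta (e : AddChar K ℂ) : P →* ℂˣ where
  toFun x := eu e (D.eqv.symm x).1
  map_one' := by rw [← D.uu_zero, co_uu, eu_zero]
  map_mul' x y := by
    obtain ⟨t, u, v, rfl⟩ := D.exists_uu x
    obtain ⟨t', u', v', rfl⟩ := D.exists_uu y
    rw [uu_mul, co_uu, co_uu, co_uu, eu_add]

theorem theta_uu (e : AddChar K ℂ) (t u v : K) : (D.theta e (D.uu t u v) : ℂ) = e t := by
  change ((eu e (D.eqv.symm _).1 : ℂˣ) : ℂ) = _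
  rw [co_uu, coe_eu]

/-- the elements of the prime field -/
def F3 (hK : Fintype.card K = 3 ^ (2 * m + 1)) : AddSubgroup K where
  carrier := {t | t ^ 3 = t}
  add_mem' := by
    intro a b ha hb
    have h3 := three_eq_zero hK
    change (a + b) ^ 3 = a + b
    change a ^ 3 = a at ha
    change b ^ 3 = b at hb
    linear_combination ha + hb + (a ^ 2 * b + a * b ^ 2) * h3
  zero_mem' := by
    change (0 : K) ^ 3 = 0
    ring
  neg_mem' := by
    intro a ha
    change (-a) ^ 3 = -a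
    change a ^ 3 = a at ha
    linear_combination -ha

/-- the centre modulo the kernel -/
noncomputable def R (hK : Fintype.card K = 3 ^ (2 * m + 1)) : Subgroup P :=
  (AddSubgroup.toSubgroup (F3 hK)).comap D.tt

theorem mem_R (hK : Fintype.card K = 3 ^ (2 * m + 1)) (t u v : K) : D.uu t u v ∈ D.R hK ↔ t ^ 3 = t := by
  unfold R
  rw [Subgroup.mem_comap, tt_uu]
  rfl

theorem card_R (hK : Fintype.card K = 3 ^ (2 * m + 1)) : Nat.card (D.R hK) = 3 * Fintype.card K ^ 2 := by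
  let E : {t : K // t ^ 3 = t} × K × K ≃ D.R hK := Equiv.ofBijective
    (fun p => ⟨D.uu p.1 p.2.1 p.2.2, (D.mem_R hK _ _ _).2 p.1.2⟩) ⟨fun p p' h => by
      obtain ⟨h1, h2, h3⟩ := D.uu_inj (congrArg Subtype.val h)
      exact Prod.ext (Subtype.ext h1) (Prod.ext h2 h3), by
      rintro ⟨x, hx⟩
      obtain ⟨t, u, v, rfl⟩ := D.exists_uu x
      exact ⟨(⟨t, (D.mem_R hK _ _ _).1 hx⟩, u, v), rfl⟩⟩
  rw [← Nat.card_congr E, Nat.card_prod, Nat.card_prod, card_cube hK, Nat.card_eq_fintype_card]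
  ring

/-- the linear characters of `R` -/
noncomputable def mu (hK : Fintype.card K = 3 ^ (2 * m + 1)) (e : AddChar K ℂ) (s : K) : D.R hK →* ℂˣ where
  toFun x := eu e ((D.eqv.symm x).2.1 - (D.eqv.symm x).1 ^ 2 + s * (D.eqv.symm x).1)
  map_one' := by
    rw [OneMemClass.coe_one, ← D.uu_zero, co_uu, ← eu_zero e]
    congr 1
    ring
  map_mul' := by
    rintro ⟨x, hx⟩ ⟨y, hy⟩
    obtain ⟨t, u, v, rfl⟩ := D.exists_uu x
    obtain ⟨t', u', v', rfl⟩ := D.exists_uu y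
    rw [MulMemClass.mk_mul_mk]
    simp only
    rw [uu_mul, co_uu, co_uu, co_uu, ← eu_add, pow_fix ((D.mem_R hK _ _ _).1 hy)]
    congr 1
    simp only
    linear_combination (-(t * t')) * three_eq_zero hK

theorem mu_uu (hK : Fintype.card K = 3 ^ (2 * m + 1)) (e : AddChar K ℂ) (s : K) {t u v : K}
    (h : D.uu t u v ∈ D.R hK) : D.mu hK e s ⟨D.uu t u v, h⟩ = eu e (u - t ^ 2 + s * t) := by
  change eu e ((D.eqv.symm (D.uu t u v)).2.1 - (D.eqv.symm (D.uu t u v)).1 ^ 2 + s * (D.eqv.symm (D.uu t u v)).1) = _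
  rw [co_uu]

/-- **The characters of degree `3 ^ m`.** -/
theorem exists_nu (hK : Fintype.card K = 3 ^ (2 * m + 1)) {e : AddChar K ℂ} (he : e ≠ 1)
    (he3 : ∀ x, e (x ^ 3) = e x) (s : K) [DecidableEq K] : ∃ ν : IrrCharacter P, ∀ t u v,
      (ν : P → ℂ) (D.uu t u v) = if t ^ 3 = t then (3 : ℂ) ^ m * e (u - t ^ 2 + s * t) else 0 := by
  have := D.finite_P
  have : (D.R hK).Normal := Subgroup.normal_comap _
  obtain ⟨ν, d, hd, h1, h2⟩ := exists_ram (D.R hK) (D.mu hK e s) (by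
    rintro g ⟨r, hr⟩ ⟨r', hr'⟩ h
    obtain ⟨a, b, c, rfl⟩ := D.exists_uu g
    obtain ⟨t, u, v, rfl⟩ := D.exists_uu r
    obtain ⟨t', u', v', rfl⟩ := D.exists_uu r'
    simp only at h
    rw [eq_mul_inv_iff_mul_eq, uu_mul, uu_mul] at h
    obtain ⟨e1, e2, -⟩ := D.uu_inj h
    have e3 : t' = t := by linear_combination e1
    subst e3
    rw [mu_uu, mu_uu]
    have e4 : u' - t' ^ 2 + s * t' = (u - t' ^ 2 + s * t') + (t' * a ^ 3 ^ (m + 1) - a * t' ^ 3 ^ (m + 1)) := by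
      linear_combination e2
    apply Units.ext
    rw [e4, eu_add, Units.val_mul, coe_eu e (t' * _ - _), e_comm he3 ((D.mem_R hK _ _ _).1 hr), mul_one]) (by
    intro x hx
    obtain ⟨t, u, v, rfl⟩ := D.exists_uu x
    rw [mem_R] at hx
    obtain ⟨a, ha⟩ := exists_comm hK he he3 hx
    refine ⟨D.uu a 0 0, ⟨D.uu 0 (t * a ^ 3 ^ (m + 1) - a * t ^ 3 ^ (m + 1))
      (-(a ^ 2 * t ^ 3 ^ (m + 1)) + a * t * t ^ 3 ^ (m + 1) + (u + t * a ^ 3 ^ (m + 1) - a * t ^ 3 ^ (m + 1)) * a +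
        t ^ 2 * a ^ 3 ^ (m + 1) - t * a * a ^ 3 ^ (m + 1)), (D.mem_R hK _ _ _).2 (by ring)⟩, ?_, ?_⟩
    · rw [mu_uu]
      intro h
      apply ha
      have h3 := congrArg Units.val h
      rw [coe_eu, Units.val_one] at h3
      rw [← h3]
      congr 1
      ring
    · rw [mul_inv_eq_iff_eq_mul, uu_mul, uu_mul, uu_mul, zero_pow_three_pow]
      congr 1 <;> ring)
  rw [D.card_R, D.card_P, hK] at hd
  have h3 : d = 3 ^ m := by
    have h4 : d ^ 2 * (3 * (3 ^ (2 * m + 1)) ^ 2) = (3 ^ m) ^ 2 * (3 * (3 ^ (2 * m + 1)) ^ 2) := by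
      rw [hd]
      ring
    exact Nat.pow_left_injective (by norm_num : 2 ≠ 0) (Nat.eq_of_mul_eq_mul_right (by positivity) h4)
  refine ⟨ν, fun t u v => ?_⟩
  split_ifs with ht
  · have h4 := h1 ⟨D.uu t u v, (D.mem_R hK _ _ _).2 ht⟩
    rw [mu_uu, coe_eu, h3] at h4
    rw [h4]
    push_cast
    rfl
  · exact h2 _ fun h => ht ((D.mem_R hK _ _ _).1 h)

theorem zz_mul (w t u v : K) : D.uu 0 0 w * D.uu t u v = D.uu t u (w + v) := by
  rw [uu_mul]
  congr 1 <;> ring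

theorem mul_zz (w t u v : K) : D.uu t u v * D.uu 0 0 w = D.uu t u (w + v) := by
  rw [uu_mul, zero_pow_three_pow]
  congr 1 <;> ring

/-- the centre -/
def Zc : Subgroup P where
  carrier := {x | ∃ v, x = D.uu 0 0 v}
  mul_mem' := by
    rintro x y ⟨v, rfl⟩ ⟨w, rfl⟩
    exact ⟨v + w, D.zz_mul _ _ _ _⟩
  one_mem' := ⟨0, D.uu_zero.symm⟩
  inv_mem' := by
    rintro x ⟨v, rfl⟩
    refine ⟨-v, ?_⟩
    rw [inv_eq_iff_mul_eq_one, zz_mul, add_neg_cancel, uu_zero]

theorem mem_Zc (t u v : K) : D.uu t u v ∈ D.Zc ↔ t = 0 ∧ u = 0 := by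
  constructor
  · rintro ⟨w, h⟩
    obtain ⟨h1, h2, -⟩ := D.uu_inj h
    exact ⟨h1, h2⟩
  · rintro ⟨rfl, rfl⟩
    exact ⟨v, rfl⟩

theorem conj_zz (g : P) (w : K) : g * D.uu 0 0 w * g⁻¹ = D.uu 0 0 w := by
  obtain ⟨t, u, v, rfl⟩ := D.exists_uu g
  rw [mul_inv_eq_iff_eq_mul, mul_zz, zz_mul]

theorem card_Zc : Nat.card D.Zc = Fintype.card K := by
  let E : K ≃ D.Zc := Equiv.ofBijective (fun v => ⟨D.uu 0 0 v, v, rfl⟩)
    ⟨fun v v' h => (D.uu_inj (congrArg Subtype.val h)).2.2, by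
      rintro ⟨x, v, rfl⟩
      exact ⟨v, rfl⟩⟩
  rw [← Nat.card_congr E, Nat.card_eq_fintype_card]

/-- the linear character of the centre -/
noncomputable def zeta (e : AddChar K ℂ) : D.Zc →* ℂˣ where
  toFun x := eu e (D.eqv.symm x).2.2
  map_one' := by rw [OneMemClass.coe_one, ← D.uu_zero, co_uu, eu_zero]
  map_mul' := by
    rintro ⟨x, hx⟩ ⟨y, hy⟩
    rw [MulMemClass.mk_mul_mk]
    simp only
    obtain ⟨v, rfl⟩ := hx
    obtain ⟨w, rfl⟩ := hy
    rw [zz_mul, co_uu, co_uu, co_uu, eu_add]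

theorem zeta_uu (e : AddChar K ℂ) {t u v : K} (h : D.uu t u v ∈ D.Zc) : D.zeta e ⟨D.uu t u v, h⟩ = eu e v := by
  change eu e (D.eqv.symm (D.uu t u v)).2.2 = _
  rw [co_uu]

/-- **The character of degree `q`.** -/
theorem exists_tau {e : AddChar K ℂ} (he : e ≠ 1) [DecidableEq K] : ∃ τ : IrrCharacter P, ∀ t u v,
      (τ : P → ℂ) (D.uu t u v) = if t = 0 ∧ u = 0 then (Fintype.card K : ℂ) * e v else 0 := by
  have := D.finite_P
  have : D.Zc.Normal := ⟨by
    rintro x ⟨v, rfl⟩ g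
    exact ⟨v, D.conj_zz g v⟩⟩
  obtain ⟨τ, d, hd, h1, h2⟩ := exists_ram D.Zc (D.zeta e) (by
    rintro g ⟨r, v, rfl⟩ ⟨r', hr'⟩ h
    simp only at h
    rw [conj_zz] at h
    subst h
    rfl) (by
    intro x hx
    obtain ⟨t, u, v, rfl⟩ := D.exists_uu x
    rw [mem_Zc] at hx
    by_cases ht : t = 0
    · subst ht
      have hu : u ≠ 0 := fun h => hx ⟨rfl, h⟩
      obtain ⟨a, ha⟩ := exists_e_ne he hu
      refine ⟨D.uu a 0 0, ⟨D.uu 0 0 (u * a), (D.mem_Zc _ _ _).2 ⟨rfl, rfl⟩⟩, ?_, ?_⟩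
      · rw [zeta_uu]
        exact fun h => ha (congrArg Units.val h)
      · rw [mul_inv_eq_iff_eq_mul, mul_zz, uu_mul, uu_mul, zero_pow_three_pow]
        congr 1 <;> ring
    · obtain ⟨a, ha⟩ := exists_e_ne he ht
      refine ⟨D.uu 0 (-a) 0, ⟨D.uu 0 0 (t * a), (D.mem_Zc _ _ _).2 ⟨rfl, rfl⟩⟩, ?_, ?_⟩
      · rw [zeta_uu]
        exact fun h => ha (congrArg Units.val h)
      · rw [mul_inv_eq_iff_eq_mul, mul_zz, uu_mul, uu_mul, zero_pow_three_pow]
        congr 1 <;> ring)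
  rw [D.card_Zc, D.card_P] at hd
  have h3 : d = Fintype.card K := by
    have h4 : d ^ 2 * Fintype.card K = Fintype.card K ^ 2 * Fintype.card K := by
      rw [hd]
      ring
    exact Nat.pow_left_injective (by norm_num : 2 ≠ 0) (Nat.eq_of_mul_eq_mul_right Fintype.card_pos h4)
  refine ⟨τ, fun t u v => ?_⟩
  split_ifs with ht
  · have h4 := h1 ⟨D.uu t u v, (D.mem_Zc _ _ _).2 ht⟩
    rw [zeta_uu, coe_eu, h3] at h4
    exact h4
  · exact h2 _ fun h => ht ((D.mem_Zc _ _ _).1 h)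

end Uni

end Cfsg.Agent.TID.Ree
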